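import Cfsg.Agent.H587.Sp.Seven
import Cfsg.Agent.H203.BdSL2

/-!
# `SL_2` modulo scalars in `Sp_4`: cross characteristic, and characteristic 3 (helper587)
-/

set_option autoImplicit false
set_option linter.style.haveILetI false

namespace Cfsg.Agent.H587.Sp

open Cfsg Cfsg.Geo Matrix
open Cfsg.Agent.H909 Cfsg.Agent.H909.SpDouble
open Cfsg.Agent.ClassicalGeometry.SympBasic

universe u v

variable {F : Type u} [Field F]

theorem prime_ne_two {K : Type v} [Field K] [Fintype K] (h : Odd (Fintype.card K)) {s : ℕ} [CharP K s] :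
    s ≠ 2 := by
  rintro rfl
  exact two_ne_zero_of_card h (by exact_mod_cast CharP.cast_eq_zero K 2)

theorem card_ker_pr [Finite F] {P : Subgroup (GL I4 F)} (ctx : Ctx P) {X : Type v} [Group X]
    (e : (P ⧸ Zs P) ≃* X) : Nat.card (pr e).ker = 2 := by
  have h : (pr e).ker = (QuotientGroup.mk' (Zs P)).ker := by
    ext x
    rw [MonoidHom.mem_ker, MonoidHom.mem_ker]
    change e (QuotientGroup.mk' (Zs P) x) = 1 ↔ _
    rw [map_eq_one_iff _ e.injective]
  rw [h]
  exact ctx.card_ker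

/-- reindexing `GL_4` -/
def re (F : Type u) [Field F] : GL I4 F ≃* GL (Fin 4) F :=
  Units.mapEquiv (Matrix.reindexAlgEquiv F F (finSumFinEquiv (m := 2) (n := 2))).toMulEquiv

theorem cross_le [Finite F] {P : Subgroup (GL I4 F)} (ctx : Ctx P)
    {K : Type v} [Field K] [Fintype K] (hK : Odd (Fintype.card K)) {s : ℕ} (hs : s.Prime) [CharP K s]
    (hsF : (s : F) ≠ 0) (e : (P ⧸ Zs P) ≃* Matrix.ProjectiveSpecialLinearGroup (Fin 2) K) :
    Fintype.card K ≤ 9 := by
  have hbd := Cfsg.Agent.H203.BdSL2.bd_of_sl2 (F := F) (K := K) hs rfl hsF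
    (QuotientGroup.mk' (Subgroup.center (SpecialLinearGroup (Fin 2) K))) (by
      rw [QuotientGroup.ker_mk'])
  have hs2 : s ≠ 2 := prime_ne_two hK
  have hPR : Cfsg.Agent.H912.Bd.PR F 4 s (Matrix.ProjectiveSpecialLinearGroup (Fin 2) K) := by
    refine ⟨P, inferInstance, pr e, (re F).toMonoidHom.comp P.subtype, (pr_cov ctx e).surj, ?_, ?_, ?_⟩
    · intro x hx y
      rcases ((pr_cov ctx e).ker x).1 hx with h | h
      · rw [h, one_mul, mul_one]
      · rw [h]; exact (pr_cov ctx e).cen y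
    · rw [card_ker_pr ctx e]
      exact (Nat.coprime_primes Nat.prime_two hs).2 (Ne.symm hs2)
    · intro x hx
      have h1 : x = 1 := by
        have h2 : (re F) (x : GL I4 F) = 1 := hx
        rw [map_eq_one_iff _ (re F).injective] at h2
        exact Subtype.ext h2
      rw [h1]; exact one_mem _
  have h1 := hbd 4 hPR
  obtain ⟨m, hm⟩ := hK
  have h2 : Nat.gcd 2 (Fintype.card K - 1) = 2 := by
    apply Nat.gcd_eq_left
    exact ⟨m, by omega⟩
  rw [h2] at h1
  omega

theorem charP_of_card_prime {K : Type v} [Field K] [Fintype K] {n : ℕ} (hn : n.Prime) (h : Fintype.card K = n) :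
    CharP K n := by
  obtain ⟨p, hp⟩ := CharP.exists K
  obtain ⟨m, hpp, hm⟩ := FiniteField.card K p
  rw [h] at hm
  have h1 : p ∣ n := by rw [hm]; exact dvd_pow_self p m.pos.ne'
  have h2 : p = n := (Nat.prime_dvd_prime_iff_eq hpp hn).1 h1
  rw [← h2]; exact hp

theorem card_ne_seven [Finite F] {P : Subgroup (GL I4 F)} (ctx : Ctx P)
    {K : Type v} [Field K] [Fintype K] (hK : Fintype.card K = 7) (h7 : (7 : F) ≠ 0)
    (e : (P ⧸ Zs P) ≃* Matrix.ProjectiveSpecialLinearGroup (Fin 2) K) : False := by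
  haveI : CharP K 7 := charP_of_card_prime (by norm_num) hK
  have hcov := pr_cov ctx e
  have h70 : (7 : K) = 0 := by exact_mod_cast CharP.cast_eq_zero K 7
  have h30 : (3 : K) ≠ 0 := by
    intro h
    have h1 : 7 ∣ 3 := (CharP.cast_eq_zero_iff K 7 3).1 (by exact_mod_cast h)
    exact absurd h1 (by norm_num)
  have hx7 : (Cfsg.Agent.H906.unP K (Multiplicative.ofAdd 1)) ^ 7 = 1 := by
    rw [Cfsg.Agent.H906.unP_pow, mul_one]
    have : ((7 : ℕ) : K) = 0 := by exact_mod_cast h70
    rw [this]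
    exact map_one (Cfsg.Agent.H906.unP K)
  obtain ⟨y, hy, hy7⟩ := exists_lift hcov (by decide : Odd 7) hx7
  obtain ⟨z, hz⟩ := Cfsg.Agent.H906.unip_pow_conj (x := Cfsg.Agent.H906.unP K (Multiplicative.ofAdd 1))
    ⟨1, 1, by rw [one_mul, inv_one, mul_one]⟩ (n := 2) (t := Units.mk0 3 h30) (by
      rw [Units.val_mk0]
      push_cast
      linear_combination h70)
  obtain ⟨g, hg⟩ := hcov.surj z
  have hconj : g * y * g⁻¹ = y ^ 2 := by
    apply lift_unique hcov (by decide : Odd 7)
    · rw [conj_pow, hy7, mul_one, mul_inv_cancel]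
    · rw [← pow_mul, mul_comm, pow_mul, hy7, one_pow]
    · rw [map_mul, map_mul, map_inv, map_pow, hg, hy, hz]
  refine no_seven (ctx.le y.2) h7 (congrArg Subtype.val hy7) ?_ (g := g) (congrArg Subtype.val hconj)
  intro h
  have h1 : y = 1 := Subtype.ext h
  rw [h1, map_one] at hy
  have h2 := Cfsg.Agent.H906.unP_injective (K := K) ((map_one (Cfsg.Agent.H906.unP K)).trans hy)
  have h3 : (0 : K) = 1 := h2
  exact zero_ne_one h3

/-! ### `|K| = 5` -/

section Five

/-- an element of order 3 -/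
def ma (K : Type v) [Field K] : SpecialLinearGroup (Fin 2) K :=
  ⟨!![0, -1; 1, -1], by simp [Matrix.det_fin_two]⟩

/-- an element of order 3 -/
def mb (K : Type v) [Field K] : SpecialLinearGroup (Fin 2) K :=
  ⟨!![0, 1; -1, -1], by simp [Matrix.det_fin_two]⟩

open Cfsg.Agent.LieClassical.SLTwoUnipotent in
theorem ma_cube (K : Type v) [Field K] : ma K * ma K * ma K = 1 := by
  apply ext_coe
  rw [coe_mul, coe_mul, coe_one]
  change (!![0, -1; 1, -1] : Matrix (Fin 2) (Fin 2) K) * !![0, -1; 1, -1] * !![0, -1; 1, -1] = _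
  rw [Matrix.mul_fin_two, Matrix.mul_fin_two]
  ext i j; fin_cases i <;> fin_cases j <;> simp

open Cfsg.Agent.LieClassical.SLTwoUnipotent in
theorem mb_cube (K : Type v) [Field K] : mb K * mb K * mb K = 1 := by
  apply ext_coe
  rw [coe_mul, coe_mul, coe_one]
  change (!![0, 1; -1, -1] : Matrix (Fin 2) (Fin 2) K) * !![0, 1; -1, -1] * !![0, 1; -1, -1] = _
  rw [Matrix.mul_fin_two, Matrix.mul_fin_two]
  ext i j; fin_cases i <;> fin_cases j <;> simp

open Cfsg.Agent.LieClassical.SLTwoUnipotent in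
theorem u_word {K : Type v} [Field K] (h5 : (5 : K) = 0) :
    u (1 : K) = mb K * mb K * ma K * mb K * mb K * ma K := by
  apply ext_coe
  rw [coe_mul, coe_mul, coe_mul, coe_mul, coe_mul, coe_u]
  change (!![1, 1; 0, 1] : Matrix (Fin 2) (Fin 2) K) = !![0, 1; -1, -1] * !![0, 1; -1, -1] * !![0, -1; 1, -1] *
    !![0, 1; -1, -1] * !![0, 1; -1, -1] * !![0, -1; 1, -1]
  rw [Matrix.mul_fin_two, Matrix.mul_fin_two, Matrix.mul_fin_two, Matrix.mul_fin_two, Matrix.mul_fin_two]
  ext i j
  fin_cases i <;> fin_cases j <;>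
    first | (simp; done) | (simp; linear_combination (0 : K) * h5) | (simp; linear_combination h5)

open Cfsg.Agent.LieClassical.SLTwoUnipotent in
theorem l_word {K : Type v} [Field K] (h5 : (5 : K) = 0) :
    l (1 : K) = mb K * ma K * ma K * mb K * ma K * ma K := by
  apply ext_coe
  rw [coe_mul, coe_mul, coe_mul, coe_mul, coe_mul, coe_l]
  change (!![1, 0; 1, 1] : Matrix (Fin 2) (Fin 2) K) = !![0, 1; -1, -1] * !![0, -1; 1, -1] * !![0, -1; 1, -1] *
    !![0, 1; -1, -1] * !![0, -1; 1, -1] * !![0, -1; 1, -1]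
  rw [Matrix.mul_fin_two, Matrix.mul_fin_two, Matrix.mul_fin_two, Matrix.mul_fin_two, Matrix.mul_fin_two]
  ext i j
  fin_cases i <;> fin_cases j <;>
    first | (simp; done) | (simp; linear_combination (0 : K) * h5) | (simp; linear_combination h5)

open Cfsg.Agent.LieClassical.SLTwoUnipotent in
theorem closure_five {K : Type v} [Field K] [Fintype K] (hK : Fintype.card K = 5) :
    Subgroup.closure ({ma K, mb K} : Set (SpecialLinearGroup (Fin 2) K)) = ⊤ := by
  haveI : CharP K 5 := charP_of_card_prime (by norm_num) hK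
  have h5 : (5 : K) = 0 := by exact_mod_cast CharP.cast_eq_zero K 5
  set C := Subgroup.closure ({ma K, mb K} : Set (SpecialLinearGroup (Fin 2) K)) with hC
  have ha : ma K ∈ C := Subgroup.subset_closure (Set.mem_insert _ _)
  have hb : mb K ∈ C := Subgroup.subset_closure (Set.mem_insert_of_mem _ rfl)
  have hu : u (1 : K) ∈ C := by
    rw [u_word h5]
    exact C.mul_mem (C.mul_mem (C.mul_mem (C.mul_mem (C.mul_mem hb hb) ha) hb) hb) ha
  have hl : l (1 : K) ∈ C := by
    rw [l_word h5]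
    exact C.mul_mem (C.mul_mem (C.mul_mem (C.mul_mem (C.mul_mem hb ha) ha) hb) ha) ha
  have h2 : (2 : K) ≠ 0 := two_ne_zero_of_card (by rw [hK]; decide)
  obtain ⟨lam, hlam⟩ := exists_gen (K := K) h2
  rw [eq_top_iff, ← hlam, Subgroup.closure_le]
  rintro x (rfl | hx)
  · exact hl
  · rw [Set.mem_singleton_iff] at hx
    subst hx
    -- `lam` is a multiple of `1`
    obtain ⟨n, hn⟩ : ∃ n : ℕ, (n : K) = lam := by
      have hbij : Function.Bijective (ZMod.castHom (dvd_refl 5) K) := by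
        rw [Fintype.bijective_iff_injective_and_card]
        exact ⟨(ZMod.castHom (dvd_refl 5) K).injective, by rw [ZMod.card, hK]⟩
      obtain ⟨a, ha⟩ := hbij.2 lam
      refine ⟨a.val, ?_⟩
      rw [← ha, ← map_natCast (ZMod.castHom (dvd_refl 5) K), ZMod.natCast_zmod_val]
    have : u lam = u (1 : K) ^ n := by rw [u_pow, mul_one, hn]
    rw [this]
    exact C.pow_mem hu n

end Five

/-- `|K| = 5` in characteristic 3. -/
theorem card_ne_five [Finite F] {P : Subgroup (GL I4 F)} (ctx : Ctx P)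
    (habs : ActsAbsolutelyIrreducibly (matrixSet P)) (h3 : (3 : F) = 0)
    {K : Type v} [Field K] [Fintype K] (hK : Fintype.card K = 5)
    (e : (P ⧸ Zs P) ≃* Matrix.ProjectiveSpecialLinearGroup (Fin 2) K) : False := by
  have hcov := pr_cov ctx e
  obtain ⟨y₁, hy₁, hy₁p⟩ := exists_lift hcov (by decide : Odd 3) (x := QuotientGroup.mk (ma K)) (by
    rw [pow_succ, pow_two, ← QuotientGroup.mk_mul, ← QuotientGroup.mk_mul, ma_cube]; rfl)
  obtain ⟨y₂, hy₂, hy₂p⟩ := exists_lift hcov (by decide : Odd 3) (x := QuotientGroup.mk (mb K)) (by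
    rw [pow_succ, pow_two, ← QuotientGroup.mk_mul, ← QuotientGroup.mk_mul, mb_cube]; rfl)
  refine quad_two habs (pr e) (pr_ker e) (y₁ := y₁) (y₂ := y₂) ?_
    (cube_quad h3 (ctx.le y₁.2) (congrArg Subtype.val hy₁p))
    (cube_quad h3 (ctx.le y₂.2) (congrArg Subtype.val hy₂p))
  rw [hy₁, hy₂]
  have h3 : (Subgroup.closure ({ma K, mb K} : Set (SpecialLinearGroup (Fin 2) K))).map
        (QuotientGroup.mk' (Subgroup.center (SpecialLinearGroup (Fin 2) K))) = ⊤ := by
    rw [closure_five hK, ← MonoidHom.range_eq_map]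
    exact MonoidHom.range_eq_top.2 (QuotientGroup.mk'_surjective _)
  rw [MonoidHom.map_closure, Set.image_pair] at h3
  exact h3

/-- Characteristic 3. -/
theorem l2_three [Fintype F] {H P : Subgroup (GL (Fin 2 ⊕ Fin 2) F)} (ctx : Ctx P)
    (hcore : IsResidualCore H P) (h3 : (3 : F) = 0)
    {K : Type v} [Field K] [Fintype K] (hK : Odd (Fintype.card K)) (h5 : 5 ≤ Fintype.card K)
    (e : (P ⧸ (scalars (Fin 2 ⊕ Fin 2) F).subgroupOf P) ≃* Matrix.ProjectiveSpecialLinearGroup (Fin 2) K) :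
    False := by
  obtain ⟨s, hs⟩ := CharP.exists K
  obtain ⟨n, hsp, hn⟩ := FiniteField.card K s
  have hs2 : s ≠ 2 := prime_ne_two hK
  by_cases hs3 : s = 3
  · subst hs3
    exact quad_false ctx hcore.absIrred hsp hs2 e fun y hy hy3 => ⟨2, cube_quad h3 (ctx.le hy) hy3⟩
  · have hsF : (s : F) ≠ 0 := by
      intro h
      haveI : CharP F 3 := by
        obtain ⟨p, hp⟩ := CharP.exists F
        have h4 : p ∣ 3 := (CharP.cast_eq_zero_iff F p 3).1 (by exact_mod_cast h3)
        have h5 : p = 3 := (Nat.prime_dvd_prime_iff_eq (CharP.char_is_prime F p) Nat.prime_three).1 h4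
        rw [← h5]; exact hp
      have h4 : 3 ∣ s := (CharP.cast_eq_zero_iff F 3 s).1 h
      exact hs3 ((Nat.prime_dvd_prime_iff_eq Nat.prime_three hsp).1 h4).symm
    have h9 := cross_le ctx hK hsp hsF e
    have h7 : (7 : F) ≠ 0 := by
      intro h
      have : (1 : F) = 7 - 3 - 3 := by norm_num
      rw [h, h3, sub_zero, sub_zero] at this
      exact one_ne_zero this
    have hcases : Fintype.card K = 5 ∨ Fintype.card K = 7 ∨ Fintype.card K = 9 := by
      obtain ⟨m, hm⟩ := hK
      omega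
    rcases hcases with h | h | h
    · exact card_ne_five ctx hcore.absIrred h3 h e
    · exact card_ne_seven ctx h h7 e
    · rw [h] at hn
      have h4 : s ∣ 9 := by rw [hn]; exact dvd_pow_self s n.pos.ne'
      have h5 : s ∣ 3 ^ 2 := by norm_num; exact h4
      exact hs3 ((Nat.prime_dvd_prime_iff_eq hsp Nat.prime_three).1 (hsp.dvd_of_dvd_pow h5))

end Cfsg.Agent.H587.Sp
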