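import Cfsg.Agent.H587.Sp.DefC

/-!
# The `L_2(K)` case of the residual class of `Sp_4(q)`, `q` odd (helper587)

* `quad_false'`: all `p`-elements quadratic is impossible (`quad_false` in `Sp.Quad` without `5 ≤ |K|`).
* `l2_three` (in `Sp.Cross`): characteristic 3 is impossible.
* `l2_card`: in characteristic `p ≥ 5` (`5 < |K| ≠ 9`), `|K| = |F|`.
* `l2_case`: the same with `7 < |F|`, given the exclusion of `|K| = |F| = 7`.
-/

set_option autoImplicit false
set_option linter.style.haveILetI false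

namespace Cfsg.Agent.H587.Sp

open Cfsg Cfsg.Geo Matrix
open Cfsg.Agent.H909 Cfsg.Agent.H909.SpDouble

universe u v

theorem quad_false' {F : Type u} [Field F] [Finite F] {P : Subgroup (GL (Fin 2 ⊕ Fin 2) F)} (ctx : Ctx P)
    (habs : ActsAbsolutelyIrreducibly (matrixSet P))
    {K : Type v} [Field K] [Fintype K] {p : ℕ} (hp : p.Prime) (hp2 : p ≠ 2) [CharP K p] (_h5 : 5 ≤ Fintype.card K)
    (e : (P ⧸ (scalars (Fin 2 ⊕ Fin 2) F).subgroupOf P) ≃* Matrix.ProjectiveSpecialLinearGroup (Fin 2) K)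
    (hq : ∀ y ∈ P, y ^ p = 1 → ∃ c : F, (y : Matrix (Fin 2 ⊕ Fin 2) (Fin 2 ⊕ Fin 2) F) +
      ((y⁻¹ : GL (Fin 2 ⊕ Fin 2) F) : Matrix (Fin 2 ⊕ Fin 2) (Fin 2 ⊕ Fin 2) F) = c • 1) : False :=
  quad_false ctx habs hp hp2 e hq

/-- The fields have the same order. -/
theorem l2_card {F : Type u} [Field F] [Fintype F] {P : Subgroup (GL (Fin 2 ⊕ Fin 2) F)} (ctx : Ctx P)
    (habs : ActsAbsolutelyIrreducibly (matrixSet P))
    (hno : ∀ F₀ : Subfield F, F₀ ≠ ⊤ → ¬ RealisableOver F₀ (matrixSet P))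
    {p : ℕ} (hp : p.Prime) [CharP F p]
    {K : Type v} [Field K] [Fintype K] (hK : Odd (Fintype.card K)) (h5 : 5 < Fintype.card K)
    (h9 : Fintype.card K ≠ 9)
    (e : (P ⧸ (scalars (Fin 2 ⊕ Fin 2) F).subgroupOf P) ≃* Matrix.ProjectiveSpecialLinearGroup (Fin 2) K) :
    Fintype.card K = Fintype.card F := by
  obtain ⟨s, hs⟩ := CharP.exists K
  obtain ⟨n, hsp, hn⟩ := FiniteField.card K s
  by_cases hsp' : s = p
  · subst hsp'
    haveI : Fact s.Prime := ⟨hp⟩
    obtain ⟨k, hk1, hk⟩ := card_pow ctx habs hno hK e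
    have hk2 := card_le_two ctx hK e hk
    have hcases : k = 1 ∨ k = 2 := by omega
    rcases hcases with rfl | rfl
    · rw [hk, pow_one]
    · exact (not_sq ctx habs hK e hk).elim
  · exfalso
    have hsF : (s : F) ≠ 0 := by
      intro h
      have h4 : p ∣ s := (CharP.cast_eq_zero_iff F p s).1 h
      exact hsp' ((Nat.prime_dvd_prime_iff_eq hp hsp).1 h4).symm
    have h9' := cross_le ctx hK hsp hsF e
    have h7 : Fintype.card K = 7 := by
      obtain ⟨m, hm⟩ := hK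
      omega
    have hs7 : s = 7 := by
      have h4 : s ∣ 7 := by rw [← h7, hn]; exact dvd_pow_self s n.pos.ne'
      exact (Nat.prime_dvd_prime_iff_eq hsp (by norm_num)).1 h4
    rw [hs7] at hsF
    exact card_ne_seven ctx h7 (by exact_mod_cast hsF) e

/-- Characteristic at least 5, given the case of `SL_2(7)` in `Sp_4(7)`. -/
theorem l2_case {F : Type u} [Field F] [Fintype F] {H P : Subgroup (GL (Fin 2 ⊕ Fin 2) F)} (ctx : Ctx P)
    (hcore : IsResidualCore H P)
    {p : ℕ} (hp : p.Prime) [CharP F p] (_hp5 : 5 ≤ p)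
    {K : Type v} [Field K] [Fintype K] (hK : Odd (Fintype.card K)) (h5 : 5 < Fintype.card K)
    (h9 : Fintype.card K ≠ 9)
    (e : (P ⧸ (scalars (Fin 2 ⊕ Fin 2) F).subgroupOf P) ≃* Matrix.ProjectiveSpecialLinearGroup (Fin 2) K)
    (l27 : Fintype.card F = 7 → Fintype.card K = 7 → False) :
    Fintype.card K = Fintype.card F ∧ 7 < Fintype.card F := by
  have h1 := l2_card ctx hcore.absIrred hcore.no_subfield hp hK h5 h9 e
  refine ⟨h1, ?_⟩
  by_contra hcon
  push Not at hcon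
  have h7 : Fintype.card K = 7 := by
    obtain ⟨m, hm⟩ := hK
    omega
  exact l27 (by rw [← h1, h7]) h7

end Cfsg.Agent.H587.Sp
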