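import Cfsg.Agent.H587.Sp.Elem

/-!
# Elements of order 7 of `Sp_4(q)` conjugate to their squares (helper587)
-/

set_option autoImplicit false
set_option linter.style.haveILetI false

namespace Cfsg.Agent.H587.Sp

open Cfsg Cfsg.Geo Matrix Polynomial
open Cfsg.Agent.H909 Cfsg.Agent.H909.SpDouble
open Cfsg.Agent.ClassicalGeometry.SympBasic

universe u v

variable {F : Type u} [Field F]

theorem isRoot_iff {k : Type u} [Field k] {A : Matrix I4 I4 k} {μ : k} :
    A.charpoly.IsRoot μ ↔ (μ • (1 : Matrix I4 I4 k) - A).det = 0 := by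
  rw [Polynomial.IsRoot, Matrix.eval_charpoly, Matrix.scalar_apply, ← Matrix.smul_one_eq_diagonal]

theorem no_seven {y : GL I4 F} (hsp : y ∈ spGL 2 F) (h7 : (7 : F) ≠ 0) (hy : y ^ 7 = 1) (hy1 : y ≠ 1)
    {g : GL I4 F} (hg : g * y * g⁻¹ = y ^ 2) : False := by
  classical
  let k := AlgebraicClosure F
  let φ : GL I4 F →* GL I4 k := GeneralLinearGroup.map (algebraMap F k)
  have hφ : ∀ x : GL I4 F, ((φ x : GL I4 k) : Matrix I4 I4 k) = (x : Matrix I4 I4 F).map (algebraMap F k) :=
    fun x => rfl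
  have hφinj : Function.Injective φ := by
    intro a b hab
    apply Units.ext
    have h1 : ((φ a : GL I4 k) : Matrix I4 I4 k) = (φ b : GL I4 k) := by rw [hab]
    rw [hφ, hφ] at h1
    exact Matrix.map_injective (algebraMap F k).injective h1
  set A : Matrix I4 I4 k := ((φ y : GL I4 k) : Matrix I4 I4 k) with hA
  set ch := A.charpoly with hch
  have hAch : ch = (y : Matrix I4 I4 F).charpoly.map (algebraMap F k) := by
    rw [hch, hA, hφ, Matrix.charpoly_map]
  have hch0 : ch ≠ 0 := (Matrix.charpoly_monic A).ne_zero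
  have hA7 : A ^ 7 = 1 := by
    rw [hA, ← Units.val_pow_eq_pow_val, ← map_pow, hy, map_one, Units.val_one]
  have hA1 : A ≠ 1 := by
    intro h
    apply hy1
    apply hφinj
    rw [map_one]
    exact Units.ext h
  -- the inverse
  set B : Matrix I4 I4 k := ((φ y⁻¹ : GL I4 k) : Matrix I4 I4 k) with hB
  have hBch : B.charpoly = ch := by
    rw [hAch, hB, hφ, Matrix.charpoly_map, charpoly_inv_sp hsp]
  have hBA : B * A = 1 := by
    rw [hA, hB, ← Units.val_mul, ← map_mul, inv_mul_cancel, map_one, Units.val_one]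
  have hsq : (A ^ 2).charpoly = ch := by
    have h1 : A ^ 2 = (φ g : GL I4 k).val * A * (φ g)⁻¹.val := by
      rw [hA, ← Units.val_pow_eq_pow_val, ← map_pow, ← hg, map_mul, map_mul, map_inv, Units.val_mul,
        Units.val_mul]
    have h2 := Matrix.charpoly_units_conj (φ g) A
    rw [← Matrix.coe_units_inv] at h2
    rw [h1]; exact h2
  have rsq : ∀ μ, ch.IsRoot μ → ch.IsRoot (μ ^ 2) := by
    intro μ hμ
    rw [← hsq, isRoot_iff]
    rw [hch, isRoot_iff] at hμ
    have h1 : (μ ^ 2) • (1 : Matrix I4 I4 k) - A ^ 2 = (μ • (1 : Matrix I4 I4 k) - A) * (μ • 1 + A) := by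
      simp only [sub_mul, mul_add, Matrix.smul_mul, Matrix.mul_smul, one_mul, mul_one, smul_smul, pow_two]
      abel
    rw [h1, Matrix.det_mul, hμ, zero_mul]
  have rinv : ∀ μ, μ ≠ 0 → ch.IsRoot μ → ch.IsRoot μ⁻¹ := by
    intro μ h0 hμ
    rw [← hBch, isRoot_iff]
    rw [hch, isRoot_iff] at hμ
    have h1 : μ⁻¹ • (1 : Matrix I4 I4 k) - B = (-μ⁻¹) • (B * (μ • (1 : Matrix I4 I4 k) - A)) := by
      rw [mul_sub, hBA, Matrix.mul_smul, mul_one, smul_sub, smul_smul, neg_mul, inv_mul_cancel₀ h0]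
      rw [neg_smul, neg_smul, one_smul]
      abel
    rw [h1, Matrix.det_smul, Matrix.det_mul, hμ, mul_zero, mul_zero]
  -- a nontrivial root
  obtain ⟨μ, hμ1, v, hv0, hv⟩ := Cfsg.Agent.H203.LS.exists_eigen (f := Matrix.toLin' A) (N := 7) (by
      have : ((7 : ℕ) : k) = algebraMap F k ((7 : ℕ) : F) := (map_natCast (algebraMap F k) 7).symm
      rw [this, Ne, map_eq_zero_iff _ (algebraMap F k).injective]; exact_mod_cast h7)
    (by rw [← Matrix.toLin'_pow, hA7, Matrix.toLin'_one]; rfl)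
    (by
      intro h
      apply hA1
      have h2 : Matrix.toLin' A = Matrix.toLin' 1 := by rw [h, Matrix.toLin'_one]; rfl
      exact Matrix.toLin'.injective h2)
  rw [Matrix.toLin'_apply] at hv
  have hroot : ch.IsRoot μ := by
    rw [hch, isRoot_iff, ← Matrix.exists_mulVec_eq_zero_iff]
    refine ⟨v, hv0, ?_⟩
    rw [Matrix.sub_mulVec, Matrix.smul_mulVec, Matrix.one_mulVec, hv, sub_self]
  have hμ7 : μ ^ 7 = 1 := by
    have h1 : ∀ n : ℕ, (A ^ n) *ᵥ v = μ ^ n • v := by
      intro n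
      induction n with
      | zero => rw [pow_zero, pow_zero, Matrix.one_mulVec, one_smul]
      | succ n ih => rw [pow_succ, ← Matrix.mulVec_mulVec, hv, Matrix.mulVec_smul, ih, smul_smul,
          pow_succ, mul_comm μ]
    have h2 := h1 7
    rw [hA7, Matrix.one_mulVec] at h2
    have h3 : (μ ^ 7 - 1) • v = 0 := by rw [sub_smul, one_smul, ← h2, sub_self]
    exact sub_eq_zero.1 ((smul_eq_zero.1 h3).resolve_right hv0)
  have hμ0 : μ ≠ 0 := by rintro rfl; simp at hμ7
  have hord : orderOf μ = 7 := by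
    haveI : Fact (Nat.Prime 7) := ⟨by norm_num⟩
    exact orderOf_eq_prime hμ7 hμ1
  have r1 := hroot
  have r2 := rsq _ r1
  have r4 : ch.IsRoot (μ ^ 4) := by
    have := rsq _ r2
    rwa [← pow_mul] at this
  have hinv : ∀ i, i ≤ 7 → (μ ^ i)⁻¹ = μ ^ (7 - i) := by
    intro i hi
    refine inv_eq_of_mul_eq_one_right ?_
    rw [← pow_add, Nat.add_sub_cancel' hi, hμ7]
  have r6 : ch.IsRoot (μ ^ 6) := by
    have := rinv _ hμ0 r1
    have h2 := hinv 1 (by norm_num)
    rw [pow_one] at h2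
    rwa [h2] at this
  have r5 : ch.IsRoot (μ ^ 5) := by
    have := rinv _ (pow_ne_zero _ hμ0) r2
    rwa [hinv 2 (by norm_num)] at this
  have r3 : ch.IsRoot (μ ^ 3) := by
    have := rinv _ (pow_ne_zero _ hμ0) r4
    rwa [hinv 4 (by norm_num)] at this
  have hsub : (Finset.Icc 1 6).image (fun i : ℕ => μ ^ i) ⊆ ch.roots.toFinset := by
    intro x hx
    obtain ⟨i, hi, rfl⟩ := Finset.mem_image.1 hx
    rw [Multiset.mem_toFinset, Polynomial.mem_roots hch0]
    rw [Finset.mem_Icc] at hi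
    obtain ⟨hi1, hi6⟩ := hi
    interval_cases i
    · rw [pow_one]; exact r1
    · exact r2
    · exact r3
    · exact r4
    · exact r5
    · exact r6
  have hcard : ((Finset.Icc 1 6).image (fun i : ℕ => μ ^ i)).card = 6 := by
    rw [Finset.card_image_of_injOn]
    · simp
    · intro i hi j hj hij
      have h1 := pow_injOn_Iio_orderOf (x := μ)
      rw [hord] at h1
      simp only [Finset.coe_Icc, Set.mem_Icc] at hi hj
      exact h1 (by simp only [Set.mem_Iio]; omega) (by simp only [Set.mem_Iio]; omega) hij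
  have h1 := Finset.card_le_card hsub
  have h2 := Multiset.toFinset_card_le ch.roots
  have h3 := Polynomial.card_roots' ch
  have h4 : ch.natDegree = 4 := by rw [hch, Matrix.charpoly_natDegree_eq_dim]; simp
  omega

end Cfsg.Agent.H587.Sp
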