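import Cfsg.Agent.H587.Sp.Cross
import Cfsg.Agent.S0245

/-!
# `SL_2` modulo scalars in `Sp_4`: the field (helper587)
-/

set_option autoImplicit false
set_option linter.style.haveILetI false

namespace Cfsg.Agent.H587.Sp

open Cfsg Cfsg.Geo Matrix
open Cfsg.Agent.H909 Cfsg.Agent.H909.SpDouble
open Cfsg.Agent.ClassicalGeometry.SympBasic

universe u v

section PSL

variable {K : Type v} [Field K]

theorem sq_central (h2 : (2 : K) ≠ 0) {g : SpecialLinearGroup (Fin 2) K} (h : g ^ 2 = 1) :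
    g ∈ Subgroup.center (SpecialLinearGroup (Fin 2) K) := by
  have h1 : g = g⁻¹ := by
    rw [eq_comm, inv_eq_iff_mul_eq_one, ← pow_two, h]
  have hm : g.1 = Matrix.adjugate g.1 := by
    have := congrArg Subtype.val h1
    exact this
  rw [Matrix.adjugate_fin_two] at hm
  have e00 := congrFun (congrFun hm 0) 0
  have e01 := congrFun (congrFun hm 0) 1
  have e10 := congrFun (congrFun hm 1) 0
  simp at e00 e01 e10
  have z01 : g.1 0 1 = 0 := by
    have : (2 : K) * g.1 0 1 = 0 := by linear_combination e01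
    exact (mul_eq_zero.1 this).resolve_left h2
  have z10 : g.1 1 0 = 0 := by
    have : (2 : K) * g.1 1 0 = 0 := by linear_combination e10
    exact (mul_eq_zero.1 this).resolve_left h2
  have hdet := g.2
  rw [Matrix.det_fin_two, z01, zero_mul, sub_zero] at hdet
  rw [Matrix.SpecialLinearGroup.mem_center_iff]
  refine ⟨g.1 0 0, ?_, ?_⟩
  · rw [Fintype.card_fin, pow_two]; nth_rewrite 2 [e00]; exact hdet
  · ext i j
    fin_cases i <;> fin_cases j
    · simp
    · simp; exact z01.symm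
    · simp; exact z10.symm
    · simp; exact e00

theorem mk_eq_one_of_sq (h2 : (2 : K) ≠ 0) {g : SpecialLinearGroup (Fin 2) K} (h : g ^ 2 = 1) :
    (QuotientGroup.mk g : Matrix.ProjectiveSpecialLinearGroup (Fin 2) K) = 1 :=
  (QuotientGroup.eq_one_iff g).2 (sq_central h2 h)

theorem psl_cases [Fintype K] (hK : Odd (Fintype.card K)) (p : ℕ) [Fact p.Prime] [CharP K p]
    (x : Matrix.ProjectiveSpecialLinearGroup (Fin 2) K) :
    x ^ p = 1 ∨ x ^ ((Fintype.card K - 1) / 2) = 1 ∨ x ^ ((Fintype.card K + 1) / 2) = 1 := by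
  have h2 := two_ne_zero_of_card hK
  obtain ⟨g, rfl⟩ := QuotientGroup.mk_surjective x
  obtain ⟨m, hm⟩ := hK
  rcases Cfsg.Agent.ClassicalGeometry.SL2Order.pow_cases (F := K) rfl p g with h | h | h
  · right; left
    rw [← QuotientGroup.mk_pow]
    apply mk_eq_one_of_sq h2
    rw [← pow_mul, ← h]
    congr 1; omega
  · right; right
    rw [← QuotientGroup.mk_pow]
    apply mk_eq_one_of_sq h2
    rw [← pow_mul, ← h]
    congr 1; omega
  · left
    rw [← QuotientGroup.mk_pow]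
    apply mk_eq_one_of_sq h2
    rw [← pow_mul, ← h, mul_comm]

end PSL

variable {F : Type u} [Field F]

theorem trace_pow_char_pow {ι : Type} [Fintype ι] [DecidableEq ι] (p : ℕ) [Fact p.Prime] [CharP F p]
    (M : Matrix ι ι F) (n : ℕ) : (M ^ p ^ n).trace = M.trace ^ p ^ n := by
  induction n with
  | zero => simp
  | succ n ih =>
    rw [pow_succ, pow_mul, Cfsg.Agent.H906.trace_pow_char p, ih, ← pow_mul]

/-- The traces lie in the field of order `|K|`. -/
theorem trace_fixed [Finite F] {P : Subgroup (GL I4 F)} (ctx : Ctx P)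
    {K : Type v} [Field K] [Fintype K] (hK : Odd (Fintype.card K)) {p n : ℕ} [Fact p.Prime] [CharP K p]
    [CharP F p] (hn : Fintype.card K = p ^ n) (hn0 : n ≠ 0)
    (e : (P ⧸ Zs P) ≃* Matrix.ProjectiveSpecialLinearGroup (Fin 2) K) {g : GL I4 F} (hg : g ∈ P) :
    (g : Matrix I4 I4 F).trace ^ p ^ n = (g : Matrix I4 I4 F).trace := by
  have hcov := pr_cov ctx e
  have hkey : ∀ k : ℕ, (pr e ⟨g, hg⟩) ^ k = 1 → g ^ k = 1 ∨ g ^ k = -1 := by
    intro k hk
    rw [← map_pow] at hk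
    rcases (hcov.ker _).1 hk with h | h
    · left; exact congrArg Subtype.val h
    · right; exact congrArg Subtype.val h
  have hkey2 : ∀ k : ℕ, (pr e ⟨g, hg⟩) ^ k = 1 → g ^ (k * 2) = 1 := by
    intro k hk
    rw [pow_mul]
    rcases hkey k hk with h | h
    · rw [h, one_pow]
    · rw [h, neg_one_sq]
  obtain ⟨m, hm⟩ := hK
  rcases psl_cases ⟨m, hm⟩ p (pr e ⟨g, hg⟩) with h | h | h
  · -- unipotent up to sign
    have h1 : ∃ c : ℤ, ((g ^ p : GL I4 F) : Matrix I4 I4 F).trace = (c : F) := by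
      rcases hkey p h with h | h
      · refine ⟨4, ?_⟩
        rw [h, Units.val_one, Matrix.trace_one]; simp
      · refine ⟨-4, ?_⟩
        rw [h, Units.val_neg, Units.val_one, Matrix.trace_neg, Matrix.trace_one]; simp
    obtain ⟨c, hc⟩ := h1
    rw [Units.val_pow_eq_pow_val, Cfsg.Agent.H906.trace_pow_char p] at hc
    have h2 : ∀ k : ℕ, (c : F) ^ p ^ k = c := by
      intro k
      have := map_intCast (iterateFrobenius F p k) c
      rwa [iterateFrobenius_def] at this
    obtain ⟨k, rfl⟩ := Nat.exists_eq_succ_of_ne_zero hn0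
    have hc' : (g : Matrix I4 I4 F).trace = (c : F) := by
      apply frobenius_inj F p
      rw [frobenius_def, frobenius_def, hc]
      have := h2 1
      rw [pow_one] at this
      exact this.symm
    rw [hc', h2]
  · have h1 := hkey2 _ h
    have h2 : g ^ p ^ n = g := by
      have h3 : p ^ n = (Fintype.card K - 1) / 2 * 2 + 1 := by rw [← hn]; omega
      rw [h3, pow_succ, h1, one_mul]
    rw [← trace_pow_char_pow p, ← Units.val_pow_eq_pow_val, h2]
  · have h1 := hkey2 _ h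
    have h2 : g ^ p ^ n = g⁻¹ := by
      rw [eq_inv_iff_mul_eq_one, ← pow_succ, ← hn]
      rw [← h1]; congr 1; omega
    rw [← trace_pow_char_pow p, ← Units.val_pow_eq_pow_val, h2, trace_inv_sp (ctx.le hg)]

theorem card_pow [Fintype F] {P : Subgroup (GL I4 F)} (ctx : Ctx P)
    (habs : ActsAbsolutelyIrreducibly (matrixSet P))
    (hno : ∀ F₀ : Subfield F, F₀ ≠ ⊤ → ¬ RealisableOver F₀ (matrixSet P))
    {K : Type v} [Field K] [Fintype K] (hK : Odd (Fintype.card K)) {p : ℕ} [hp : Fact p.Prime] [CharP K p]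
    [CharP F p] (e : (P ⧸ Zs P) ≃* Matrix.ProjectiveSpecialLinearGroup (Fin 2) K) :
    ∃ k, 1 ≤ k ∧ Fintype.card K = Fintype.card F ^ k := by
  obtain ⟨n, hpp, hn⟩ := FiniteField.card K p
  obtain ⟨a, -, ha⟩ := FiniteField.card F p
  set F₀ : Subfield F := (iterateFrobenius F p n).eqLocusField (RingHom.id F) with hF₀
  have hmem : ∀ x : F, x ∈ F₀ ↔ x ^ p ^ (n : ℕ) = x := by
    intro x
    rw [← iterateFrobenius_def]
    exact Iff.rfl
  have htop : F₀ = ⊤ := by
    by_contra hne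
    refine hno F₀ hne (Cfsg.Agent.H906.realisable_of_trace habs F₀ fun g hg => ?_)
    rw [hmem]
    exact trace_fixed ctx hK hn n.pos.ne' e hg
  have hall : ∀ x : F, x ^ p ^ (n : ℕ) = x := fun x => by
    rw [← hmem, htop]; exact Subfield.mem_top x
  obtain ⟨g, hg⟩ := IsCyclic.exists_generator (α := Fˣ)
  classical
  have hord : orderOf g = Fintype.card F - 1 := by
    rw [orderOf_eq_card_of_forall_mem_zpowers hg, Nat.card_eq_fintype_card, Fintype.card_units]
  have hpn : 0 < p ^ (n : ℕ) := pow_pos hpp.pos _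
  have h1 : g ^ (p ^ (n : ℕ) - 1) = 1 := by
    have h2 : g ^ (p ^ (n : ℕ) - 1) * g = 1 * g := by
      rw [← pow_succ, Nat.sub_add_cancel hpn, one_mul]
      apply Units.ext
      rw [Units.val_pow_eq_pow_val]
      exact hall _
    exact mul_right_cancel h2
  have h2 := orderOf_dvd_of_pow_eq_one h1
  rw [hord, ha] at h2
  have h3 := Nat.pow_sub_one_gcd_pow_sub_one p a n
  rw [Nat.gcd_eq_left h2] at h3
  have h4 : (a : ℕ) = Nat.gcd a n := by
    apply Nat.pow_right_injective hpp.two_le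
    have h5 : 0 < p ^ (a : ℕ) := pow_pos hpp.pos _
    have h6 : 0 < p ^ (Nat.gcd a n) := pow_pos hpp.pos _
    change p ^ (a : ℕ) = p ^ (Nat.gcd a n)
    omega
  have h5 : (a : ℕ) ∣ n := by rw [h4]; exact Nat.gcd_dvd_right _ _
  obtain ⟨k, hk⟩ := h5
  refine ⟨k, ?_, ?_⟩
  · rcases Nat.eq_zero_or_pos k with h | h
    · rw [h, mul_zero] at hk
      exact absurd hk n.pos.ne'
    · exact h
  · rw [hn, ha, hk, pow_mul]

/-- `P` embeds in the symplectic group -/
def toSymp {P : Subgroup (GL I4 F)} (hP : P ≤ spGL 2 F) : P →* Matrix.symplecticGroup (Fin 2) F where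
  toFun g := ⟨((g : GL I4 F) : Matrix I4 I4 F), mem_spGL_iff_symplectic.1 (hP g.2)⟩
  map_one' := rfl
  map_mul' _ _ := rfl

theorem card_eq [Finite F] {P : Subgroup (GL I4 F)} (ctx : Ctx P)
    {K : Type v} [Field K] [Fintype K] (hK : Odd (Fintype.card K))
    (e : (P ⧸ Zs P) ≃* Matrix.ProjectiveSpecialLinearGroup (Fin 2) K) :
    Nat.card P = Fintype.card K * (Fintype.card K ^ 2 - 1) := by
  have h1 := Cfsg.Agent.ClassicalGeometry.PSL2Basic.card_PSL2_odd K hK
  have h2 := Nat.card_congr (QuotientGroup.quotientKerEquivOfSurjective (pr e) (pr_cov ctx e).surj).toEquiv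
  have h3 := Subgroup.card_eq_card_quotient_mul_card_subgroup (pr e).ker
  rw [card_ker_pr ctx e, h2, h1] at h3
  exact h3

theorem card_le_two [Fintype F] {P : Subgroup (GL I4 F)} (ctx : Ctx P)
    {K : Type v} [Field K] [Fintype K] (hK : Odd (Fintype.card K))
    (e : (P ⧸ Zs P) ≃* Matrix.ProjectiveSpecialLinearGroup (Fin 2) K) {k : ℕ}
    (hk : Fintype.card K = Fintype.card F ^ k) : k ≤ 2 := by
  set q := Fintype.card F with hq
  have hq1 : 1 < q := Fintype.one_lt_card
  have hdvd : Nat.card P ∣ Nat.card (Matrix.symplecticGroup (Fin 2) F) := by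
    apply Subgroup.card_dvd_of_injective (toSymp ctx.le)
    intro a b hab
    apply Subtype.ext
    apply Units.ext
    exact congrArg Subtype.val hab
  rw [card_eq ctx hK e, Cfsg.Agent.S0245.result (q := q) rfl 2, hk] at hdvd
  rw [Finset.prod_range_succ, Finset.prod_range_succ, Finset.prod_range_zero, one_mul] at hdvd
  norm_num at hdvd
  have h1 : (q ^ k) ^ 2 - 1 ∣ (q ^ 2 - 1) * (q ^ 4 - 1) := by
    have h2 : (q ^ k) ^ 2 - 1 ∣ q ^ 4 * ((q ^ 2 - 1) * (q ^ 4 - 1)) :=
      (Dvd.intro_left _ rfl).trans hdvd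
    refine Nat.Coprime.dvd_of_dvd_mul_left ?_ h2
    by_contra hcon
    obtain ⟨l, hl, hl1, hl2⟩ := Nat.Prime.not_coprime_iff_dvd.1 hcon
    have h3 : l ∣ q := hl.dvd_of_dvd_pow hl2
    by_cases hk0 : k = 0
    · subst hk0
      rw [pow_zero] at hk
      have := Fintype.one_lt_card (α := K)
      omega
    have h4 : l ∣ (q ^ k) ^ 2 := dvd_pow (dvd_pow h3 hk0) two_ne_zero
    have h5 : 0 < (q ^ k) ^ 2 := by positivity
    have h6 : l ∣ 1 := by
      have := (Nat.dvd_sub h4 hl1)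
      rwa [Nat.sub_sub_self h5] at this
    exact hl.one_lt.ne' (Nat.dvd_one.1 h6)
  have hpos : 0 < (q ^ 2 - 1) * (q ^ 4 - 1) := by
    have h2 : 1 < q ^ 2 := Nat.one_lt_pow two_ne_zero hq1
    have h3 : 1 < q ^ 4 := Nat.one_lt_pow (by norm_num) hq1
    exact Nat.mul_pos (by omega) (by omega)
  have h2 := Nat.le_of_dvd hpos h1
  by_contra hcon
  push Not at hcon
  have h3 : q ^ 6 ≤ (q ^ k) ^ 2 := by
    rw [← pow_mul]
    exact Nat.pow_le_pow_right (by omega) (by omega)
  have h4 : (q ^ 2 - 1) * (q ^ 4 - 1) < q ^ 6 - 1 := by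
    obtain ⟨a, ha⟩ : ∃ a, q ^ 2 = a + 1 := ⟨q ^ 2 - 1, by
      have : 1 < q ^ 2 := Nat.one_lt_pow two_ne_zero hq1
      omega⟩
    have ha1 : 1 ≤ a := by
      have : 1 < q ^ 2 := Nat.one_lt_pow two_ne_zero hq1
      omega
    have e4 : q ^ 4 = (a + 1) ^ 2 := by rw [← ha, ← pow_mul]
    have e6 : q ^ 6 = (a + 1) ^ 3 := by rw [← ha, ← pow_mul]
    rw [e4, e6, ha]
    have e7 : (a + 1) ^ 2 - 1 = a ^ 2 + 2 * a := by
      have : (a + 1) ^ 2 = a ^ 2 + 2 * a + 1 := by ring
      omega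
    have e8 : (a + 1) ^ 3 - 1 = a ^ 3 + 3 * a ^ 2 + 3 * a := by
      have : (a + 1) ^ 3 = a ^ 3 + 3 * a ^ 2 + 3 * a + 1 := by ring
      omega
    rw [e7, e8, Nat.add_sub_cancel]
    nlinarith
  omega

end Cfsg.Agent.H587.Sp
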