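import Cfsg.Agent.H587.Sp.DefA
import Cfsg.Agent.H906.RankOne

/-!
# `SL_2(q^2)` modulo scalars in `Sp_4(q)` (helper587)
-/

set_option autoImplicit false
set_option linter.style.haveILetI false

namespace Cfsg.Agent.H587.Sp

open Cfsg Cfsg.Geo Matrix
open Cfsg.Agent.H909 Cfsg.Agent.H909.SpDouble
open Cfsg.Agent.ClassicalGeometry.SympBasic
open Cfsg.Agent.H906 (unP dg dg_val dg_pow unP_conj unP_pow unP_injective mk_conj_un)

universe u v

/-! ### Four-groups of `PSL_2` -/

section Four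

variable {K : Type v} [Field K]

theorem entries_of_mk {g : SpecialLinearGroup (Fin 2) K}
    (h : (QuotientGroup.mk g : Matrix.ProjectiveSpecialLinearGroup (Fin 2) K) = 1) :
    g.1 0 1 = 0 ∧ g.1 1 0 = 0 ∧ g.1 0 0 = g.1 1 1 := by
  rw [QuotientGroup.eq_one_iff, Matrix.SpecialLinearGroup.mem_center_iff] at h
  obtain ⟨r, -, hr⟩ := h
  refine ⟨?_, ?_, ?_⟩
  · have := congrFun (congrFun hr 0) 1
    simpa using this.symm
  · have := congrFun (congrFun hr 1) 0
    simpa using this.symm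
  · have h0 := congrFun (congrFun hr 0) 0
    have h1 := congrFun (congrFun hr 1) 1
    simp at h0 h1
    rw [← h0, ← h1]

/-- the Weyl element -/
def ww (K : Type v) [Field K] : SpecialLinearGroup (Fin 2) K :=
  ⟨!![0, 1; -1, 0], by simp [Matrix.det_fin_two]⟩

theorem mk_conj_of {g h x : SpecialLinearGroup (Fin 2) K} (hx : h * x = x * g) :
    IsConj (QuotientGroup.mk g : Matrix.ProjectiveSpecialLinearGroup (Fin 2) K) (QuotientGroup.mk h) := by
  rw [isConj_iff]
  refine ⟨QuotientGroup.mk x, ?_⟩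
  rw [mul_inv_eq_iff_eq_mul, ← QuotientGroup.mk_mul, ← QuotientGroup.mk_mul, hx]

theorem not_li_dg {Y : Type u} [Group Y] {c : Y} {f : Y →* Matrix.ProjectiveSpecialLinearGroup (Fin 2) K}
    (h : TwoCov f c) (h2 : (2 : K) ≠ 0) {i : Kˣ} (hi : (i : K) ^ 2 = -1) :
    ¬ TwoCov.LI f (QuotientGroup.mk (dg i)) := by
  have hi0 : (i : K) ≠ 0 := i.ne_zero
  have hinv : ((i⁻¹ : Kˣ) : K) = -(i : K) := by
    rw [Units.val_inv_eq_inv_val, inv_eq_iff_eq_inv, ← neg_inv, eq_neg_iff_add_eq_zero]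
    field_simp
    linear_combination hi
  refine TwoCov.not_li_of_klein h (b := QuotientGroup.mk (ww K)) ?_ ?_ ?_ ?_ ?_
  · intro h1
    have h3 := (entries_of_mk h1).2.2
    rw [dg_val] at h3
    simp only [Matrix.of_apply, Matrix.cons_val_zero, Matrix.cons_val_one, Matrix.cons_val', Matrix.empty_val',
      Matrix.cons_val_fin_one] at h3
    rw [hinv] at h3
    have h4 : (2 : K) * i = 0 := by linear_combination h3
    exact (mul_ne_zero h2 hi0) h4
  · intro h1
    have h3 := (entries_of_mk h1).1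
    simp [ww] at h3
  · intro h1
    have h3 : (QuotientGroup.mk ((dg i)⁻¹ * ww K) : Matrix.ProjectiveSpecialLinearGroup (Fin 2) K) = 1 := by
      rw [QuotientGroup.mk_mul, QuotientGroup.mk_inv, h1, inv_mul_cancel]
    have h4 := (entries_of_mk h3).1
    rw [Cfsg.Agent.H906.dg_inv] at h4
    change ((dg i⁻¹).1 * (ww K).1) 0 1 = 0 at h4
    rw [dg_val] at h4
    simp [ww, Matrix.mul_apply, Fin.sum_univ_two] at h4
  · obtain ⟨x, hx⟩ : ∃ x : SpecialLinearGroup (Fin 2) K, x.1 = !![1, (i : K) / 2; (i : K), 1 / 2] :=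
      ⟨⟨!![1, (i : K) / 2; (i : K), 1 / 2], by
        rw [Matrix.det_fin_two_of]; field_simp; linear_combination -hi⟩, rfl⟩
    refine mk_conj_of (x := x) ?_
    apply Subtype.ext
    change (ww K).1 * x.1 = x.1 * (dg i).1
    rw [hx, dg_val, hinv]
    change !![0, 1; -1, 0] * !![1, (i : K) / 2; (i : K), 1 / 2] =
      !![1, (i : K) / 2; (i : K), 1 / 2] * !![(i : K), 0; 0, -(i : K)]
    rw [Matrix.mul_fin_two, Matrix.mul_fin_two]
    ext a b
    fin_cases a <;> fin_cases b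
    · simp
    · simp; field_simp; linear_combination hi
    · simp; linear_combination -hi
    · simp; ring
  · obtain ⟨x, hx⟩ : ∃ x : SpecialLinearGroup (Fin 2) K, x.1 = !![1, -1 / 2; 1, 1 / 2] :=
      ⟨⟨!![1, -1 / 2; 1, 1 / 2], by
        rw [Matrix.det_fin_two_of]; field_simp; norm_num⟩, rfl⟩
    rw [← QuotientGroup.mk_mul]
    refine mk_conj_of (x := x) ?_
    apply Subtype.ext
    change (dg i).1 * (ww K).1 * x.1 = x.1 * (dg i).1
    rw [hx, dg_val, hinv]
    change !![(i : K), 0; 0, -(i : K)] * !![0, 1; -1, 0] * !![1, -1 / 2; 1, 1 / 2] =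
      !![1, -1 / 2; 1, 1 / 2] * !![(i : K), 0; 0, -(i : K)]
    rw [Matrix.mul_fin_two, Matrix.mul_fin_two, Matrix.mul_fin_two]
    ext a b
    fin_cases a <;> fin_cases b
    · simp
    · simp; ring
    · simp
    · simp; ring

end Four

/-! ### Invariant subspaces -/

section Sub

variable {F : Type u} [Field F] {ι : Type} [Fintype ι] [DecidableEq ι]

theorem exists_next [Finite F] (p : ℕ) [Fact p.Prime] [CharP F p] {G : Type*} [Group G]
    (ρ : G →* Matrix ι ι F) {S : Subgroup G} (hS : IsPGroup p S) (W : Submodule F (ι → F)) (hW : W ≠ ⊤)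
    (hinv : ∀ s ∈ S, ∀ v ∈ W, ρ s *ᵥ v ∈ W) : ∃ v, v ∉ W ∧ ∀ s ∈ S, ρ s *ᵥ v - v ∈ W := by
  classical
  have hle : ∀ s : S, W ≤ W.comap (Matrix.toLin' (ρ s)) := fun s v hv => by
    rw [Submodule.mem_comap, Matrix.toLin'_apply]; exact hinv s s.2 v hv
  let act : MulAction S ((ι → F) ⧸ W) :=
    { smul := fun s x => W.mapQ W (Matrix.toLin' (ρ s)) (hle s) x
      one_smul := fun x => by
        obtain ⟨v, rfl⟩ := W.mkQ_surjective x
        change W.mapQ W (Matrix.toLin' (ρ ((1 : S) : G))) (hle 1) (W.mkQ v) = W.mkQ v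
        rw [Submodule.mkQ_apply, Submodule.mapQ_apply, Matrix.toLin'_apply, Subgroup.coe_one, map_one,
          Matrix.one_mulVec]
      mul_smul := fun a b x => by
        obtain ⟨v, rfl⟩ := W.mkQ_surjective x
        change W.mapQ W (Matrix.toLin' (ρ ((a * b : S) : G))) (hle (a * b)) (W.mkQ v) =
          W.mapQ W (Matrix.toLin' (ρ (a : G))) (hle a) (W.mapQ W (Matrix.toLin' (ρ (b : G))) (hle b) (W.mkQ v))
        rw [Submodule.mkQ_apply, Submodule.mapQ_apply, Submodule.mapQ_apply, Submodule.mapQ_apply,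
          Matrix.toLin'_apply, Matrix.toLin'_apply, Matrix.toLin'_apply, Subgroup.coe_mul, map_mul,
          Matrix.mulVec_mulVec] }
  have hsm : ∀ (s : S) (v : ι → F), s • (W.mkQ v) = W.mkQ (ρ s *ᵥ v) := by
    intro s v
    change W.mapQ W (Matrix.toLin' (ρ (s : G))) (hle s) (W.mkQ v) = _
    rw [Submodule.mkQ_apply, Submodule.mapQ_apply, Matrix.toLin'_apply, Submodule.mkQ_apply]
  haveI : Finite ((ι → F) ⧸ W) := Finite.of_surjective _ W.mkQ_surjective
  obtain ⟨v, hv⟩ : ∃ v, v ∉ W := by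
    by_contra hcon
    push Not at hcon
    exact hW (eq_top_iff.2 fun v _ => hcon v)
  have hdvd : p ∣ Nat.card ((ι → F) ⧸ W) := by
    have h1 : addOrderOf (W.mkQ v) = p := by
      apply addOrderOf_eq_prime
      · rw [← map_nsmul]
        have : p • v = 0 := by funext i; simp
        rw [this, map_zero]
      · intro h
        rw [Submodule.mkQ_apply, Submodule.Quotient.mk_eq_zero] at h
        exact hv h
    rw [← h1]
    exact addOrderOf_dvd_natCard _
  obtain ⟨b, hb, hb0⟩ := hS.exists_fixed_point_of_prime_dvd_card_of_fixed_point ((ι → F) ⧸ W) hdvd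
    (a := (0 : (ι → F) ⧸ W)) (by
      intro s
      have := hsm s 0
      rw [map_zero, Matrix.mulVec_zero, map_zero] at this
      exact this)
  obtain ⟨w, rfl⟩ := W.mkQ_surjective b
  refine ⟨w, ?_, ?_⟩
  · intro h
    apply hb0
    rw [eq_comm, Submodule.mkQ_apply, Submodule.Quotient.mk_eq_zero]
    exact h
  · intro s hs
    have h1 := hb ⟨s, hs⟩
    rw [hsm, Submodule.mkQ_apply, Submodule.mkQ_apply, Submodule.Quotient.eq] at h1
    exact h1

/-- An invariant hyperplane gives an eigenvector. -/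
theorem eigen_of_hyperplane {A : Matrix ι ι F} {W : Submodule F (ι → F)}
    (hW : Module.finrank F W + 1 = Fintype.card ι) (hinv : ∀ v ∈ W, A *ᵥ v ∈ W) :
    ∃ (χ : F) (v : ι → F), v ≠ 0 ∧ A *ᵥ v = χ • v := by
  have hlt : W < ⊤ := by
    rw [lt_top_iff_ne_top]
    rintro rfl
    rw [finrank_top, Module.finrank_fintype_fun_eq_card] at hW
    omega
  obtain ⟨φ, hφ0, hφ⟩ := Submodule.exists_le_ker_of_lt_top W hlt
  obtain ⟨v₀, hv₀⟩ : ∃ v₀, φ v₀ ≠ 0 := by
    by_contra hcon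
    push Not at hcon
    exact hφ0 (LinearMap.ext hcon)
  have hker : LinearMap.ker φ = W := by
    symm
    apply Submodule.eq_of_le_of_finrank_le hφ
    have h1 := LinearMap.finrank_range_add_finrank_ker φ
    have h2 : 0 < Module.finrank F (LinearMap.range φ) := by
      rw [Module.finrank_pos_iff_exists_ne_zero]
      exact ⟨⟨φ v₀, ⟨v₀, rfl⟩⟩, fun h => hv₀ (congrArg Subtype.val h)⟩
    rw [Module.finrank_fintype_fun_eq_card] at h1
    omega
  set χ : F := φ (A *ᵥ v₀) / φ v₀ with hχ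
  have hcomp : ∀ v, φ (A *ᵥ v) = χ * φ v := by
    intro v
    have h1 : v - (φ v / φ v₀) • v₀ ∈ W := by
      rw [← hker, LinearMap.mem_ker, map_sub, map_smul, smul_eq_mul, div_mul_cancel₀ _ hv₀, sub_self]
    have h2 := hinv _ h1
    rw [← hker, LinearMap.mem_ker, Matrix.mulVec_sub, Matrix.mulVec_smul, map_sub, map_smul, smul_eq_mul] at h2
    rw [sub_eq_zero.1 h2, hχ]
    field_simp
  -- `A - χ` is not invertible
  have hdet : (A - χ • (1 : Matrix ι ι F)).det = 0 := by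
    by_contra hne
    have hu : IsUnit (A - χ • (1 : Matrix ι ι F)) := (Matrix.isUnit_iff_isUnit_det _).2 (isUnit_iff_ne_zero.2 hne)
    obtain ⟨B, hB⟩ := hu.exists_right_inv
    apply hv₀
    have h1 : v₀ = (A - χ • (1 : Matrix ι ι F)) *ᵥ (B *ᵥ v₀) := by
      rw [Matrix.mulVec_mulVec, hB, Matrix.one_mulVec]
    rw [h1, Matrix.sub_mulVec, Matrix.smul_mulVec, Matrix.one_mulVec, map_sub, map_smul, hcomp, smul_eq_mul,
      sub_self]
  obtain ⟨v, hv, hv'⟩ := Matrix.exists_mulVec_eq_zero_iff.2 hdet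
  refine ⟨χ, v, hv, ?_⟩
  rw [Matrix.sub_mulVec, Matrix.smul_mulVec, Matrix.one_mulVec] at hv'
  exact sub_eq_zero.1 hv'

omit [DecidableEq ι] in
/-- An invariant line gives an eigenvector. -/
theorem eigen_of_line {A : Matrix ι ι F} {W : Submodule F (ι → F)}
    (hW : Module.finrank F W = 1) (hinv : ∀ v ∈ W, A *ᵥ v ∈ W) :
    ∃ (χ : F) (v : ι → F), v ≠ 0 ∧ A *ᵥ v = χ • v := by
  obtain ⟨w, hw0, hw⟩ := finrank_eq_one_iff'.1 hW
  obtain ⟨c, hc⟩ := hw ⟨A *ᵥ (w : ι → F), hinv w w.2⟩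
  exact ⟨c, w, fun h => hw0 (Subtype.ext h), (congrArg Subtype.val hc).symm⟩

end Sub

end Cfsg.Agent.H587.Sp
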