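import Cfsg.Agent.H587.Sp.DefB

/-!
# `SL_2(q^2)` modulo scalars is not in `Sp_4(q)` (helper587)
-/

set_option autoImplicit false
set_option linter.style.haveILetI false

namespace Cfsg.Agent.H587.Sp

open Cfsg Cfsg.Geo Matrix
open Cfsg.Agent.H909 Cfsg.Agent.H909.SpDouble
open Cfsg.Agent.ClassicalGeometry.SympBasic
open Cfsg.Agent.H906 (unP dg dg_val dg_pow unP_conj unP_pow unP_injective mk_conj_un)

universe u v

section Lifts

variable {Y : Type u} [Group Y] {c : Y} {K : Type v} [Field K]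
  {f : Y →* Matrix.ProjectiveSpecialLinearGroup (Fin 2) K}

/-- lifts of the unipotent elements form a group -/
theorem exists_hom (h : TwoCov f c) {p : ℕ} (hp : Odd p) [CharP K p] :
    ∃ y : Multiplicative K →* Y, (∀ b, f (y b) = unP K b) ∧ ∀ b, y b ^ p = 1 := by
  have hpow : ∀ b : Multiplicative K, (unP K b) ^ p = 1 := by
    intro b
    have h1 : unP K b = unP K (Multiplicative.ofAdd (Multiplicative.toAdd b)) := rfl
    rw [h1, unP_pow, CharP.cast_eq_zero, zero_mul]
    exact map_one (unP K)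
  choose y hy hyp using fun b => exists_lift h hp (hpow b)
  have hcomm : ∀ a b, y a * y b = y b * y a := by
    intro a b
    have h1 : y a * y b * (y a)⁻¹ = y b := by
      apply lift_unique h hp
      · rw [conj_pow, hyp, mul_one, mul_inv_cancel]
      · exact hyp b
      · rw [map_mul, map_mul, map_inv, hy, hy, ← map_mul, mul_comm a b, map_mul, mul_inv_cancel_right]
    rw [← h1, inv_mul_cancel_right, h1]
  refine ⟨MonoidHom.mk' y fun a b => ?_, hy, hyp⟩
  apply lift_unique h hp
  · exact hyp _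
  · have : Commute (y a) (y b) := hcomm a b
    rw [this.mul_pow, hyp, hyp, mul_one]
  · rw [hy, map_mul, map_mul, hy, hy]

theorem lift_conj (h : TwoCov f c) {p : ℕ} (hp : Odd p) {y : Multiplicative K →* Y}
    (hy : ∀ b, f (y b) = unP K b) (hyp : ∀ b, y b ^ p = 1) {a : Y} {t : Kˣ}
    (ha : f a = QuotientGroup.mk (dg t)) (b : K) :
    a * y (Multiplicative.ofAdd b) * a⁻¹ = y (Multiplicative.ofAdd ((t : K) ^ 2 * b)) := by
  apply lift_unique h hp
  · rw [conj_pow, hyp, mul_one, mul_inv_cancel]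
  · exact hyp _
  · rw [map_mul, map_mul, map_inv, hy, hy, ha, unP_conj]

/-- elements of order `p` are conjugate to lifts of unipotent elements -/
theorem conj_lift (h : TwoCov f c) {p : ℕ} (hp : Odd p) [Fact p.Prime] [CharP K p]
    {y : Multiplicative K →* Y} (hy : ∀ b, f (y b) = unP K b) (hyp : ∀ b, y b ^ p = 1) {x : Y}
    (hx : x ^ p = 1) : ∃ g b, g * x * g⁻¹ = y b := by
  obtain ⟨m, hm⟩ := QuotientGroup.mk_surjective (f x)
  have hmp : (QuotientGroup.mk (m ^ p) : Matrix.ProjectiveSpecialLinearGroup (Fin 2) K) = 1 := by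
    rw [QuotientGroup.mk_pow, hm, ← map_pow, hx, map_one]
  rw [QuotientGroup.eq_one_iff, Matrix.SpecialLinearGroup.mem_center_iff] at hmp
  obtain ⟨ε, hε, hs⟩ := hmp
  rw [Fintype.card_fin] at hε
  have htr : (m.1).trace ^ p = 2 * ε := by
    rw [← Cfsg.Agent.H906.trace_pow_char p]
    have h1 : m.1 ^ p = (m ^ p).1 := rfl
    rw [h1, ← hs, Matrix.scalar_apply, Matrix.trace_diagonal]
    simp
  have hεp : ε ^ p = ε := by
    obtain ⟨k, rfl⟩ := hp
    rw [pow_succ, pow_mul, hε, one_pow, one_mul]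
  have htr' : (m.1).trace = 2 * ε := by
    apply frobenius_inj K p
    rw [frobenius_def, frobenius_def, htr, mul_pow, hεp]
    have : (2 : K) ^ p = 2 := by
      have := map_natCast (frobenius K p) 2
      rw [frobenius_def] at this
      exact_mod_cast this
    rw [this]
  rw [Matrix.trace_fin_two] at htr'
  obtain ⟨z, b, hz⟩ := mk_conj_un m (by rw [htr']; linear_combination 4 * hε) p
  rw [hm] at hz
  obtain ⟨g, rfl⟩ := h.surj z
  refine ⟨g, Multiplicative.ofAdd b, ?_⟩
  apply lift_unique h hp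
  · rw [conj_pow, hx, mul_one, mul_inv_cancel]
  · exact hyp _
  · rw [map_mul, map_mul, map_inv, hy, hz]

end Lifts

variable {F : Type u} [Field F]

theorem not_sq [Fintype F] {P : Subgroup (GL I4 F)} (ctx : Ctx P)
    (habs : ActsAbsolutelyIrreducibly (matrixSet P))
    {K : Type v} [Field K] [Fintype K] (hK : Odd (Fintype.card K)) {p : ℕ} [hp : Fact p.Prime] [CharP K p]
    [CharP F p] (e : (P ⧸ Zs P) ≃* Matrix.ProjectiveSpecialLinearGroup (Fin 2) K)
    (hq : Fintype.card K = Fintype.card F ^ 2) : False := by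
  classical
  have hp2 : p ≠ 2 := prime_ne_two hK
  have hodd : Odd p := hp.out.odd_of_ne_two hp2
  have h2 := two_ne_zero_of_card hK
  have hcov := pr_cov ctx e
  obtain ⟨y, hy, hyp⟩ := exists_hom (K := K) hcov hodd
  -- the torus element
  obtain ⟨t, ht⟩ := IsCyclic.exists_generator (α := Kˣ)
  have hord : orderOf t = Fintype.card F ^ 2 - 1 := by
    rw [orderOf_eq_card_of_forall_mem_zpowers ht, Nat.card_eq_fintype_card, Fintype.card_units, hq]
  obtain ⟨a, ha⟩ := hcov.surj (QuotientGroup.mk (dg t))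
  set q := Fintype.card F with hqF
  have hq1 : 1 < q := Fintype.one_lt_card
  have hqodd : q % 2 = 1 := by
    rw [hq] at hK
    have : Odd q := by
      by_contra hcon
      rw [Nat.not_odd_iff_even] at hcon
      exact (Nat.not_even_iff_odd.2 hK) (hcon.pow_of_ne_zero two_ne_zero)
    exact Nat.odd_iff.1 this
  obtain ⟨m, hm⟩ : ∃ m, q = 2 * m + 1 := ⟨q / 2, by omega⟩
  have hm1 : 1 ≤ m := by omega
  -- q^2 - 1 = 4 m (m+1)
  have hqq : q ^ 2 - 1 = 4 * (m * (m + 1)) := by
    rw [hm]
    have : (2 * m + 1) ^ 2 = 4 * (m * (m + 1)) + 1 := by ring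
    omega
  set N := m * (m + 1) with hN
  have hN1 : 1 ≤ N := Nat.mul_pos hm1 (by omega)
  have hi2 : ((t ^ N : Kˣ) : K) ^ 2 = -1 := by
    have h4 : ((t ^ N) ^ 2) ^ 2 = 1 := by
      rw [← pow_mul, ← pow_mul, ← orderOf_dvd_iff_pow_eq_one, hord, hqq]
      exact ⟨1, by ring⟩
    have h5 : (t ^ N) ^ 2 ≠ 1 := by
      intro h
      rw [← pow_mul, ← orderOf_dvd_iff_pow_eq_one, hord, hqq] at h
      have := Nat.le_of_dvd (by omega) h
      omega
    have h6 : (((t ^ N : Kˣ) : K) ^ 2) ^ 2 = 1 := by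
      have := congrArg Units.val h4
      push_cast at this
      exact_mod_cast this
    rw [pow_two (((t ^ N : Kˣ) : K) ^ 2)] at h6
    rcases mul_self_eq_one_iff.1 h6 with h7 | h7
    · exfalso
      apply h5
      apply Units.ext
      push_cast
      exact_mod_cast h7
    · exact h7
  have haN : a ^ (2 * N) = Ctx.neg ctx.neg_one_mem := by
    have h3 : pr e (a ^ N) = QuotientGroup.mk (dg (t ^ N)) := by
      rw [map_pow, ha, ← dg_pow]; rfl
    have h4 : pr e (a ^ N) * pr e (a ^ N) = 1 := by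
      rw [h3, ← QuotientGroup.mk_mul, ← pow_two]
      apply mk_eq_one_of_sq h2
      rw [← pow_mul, dg_pow, ← pow_mul]
      have : t ^ (N * (2 * 2)) = 1 := by
        rw [← orderOf_dvd_iff_pow_eq_one, hord, hqq]; exact ⟨1, by ring⟩
      rw [this]
      apply Subtype.ext
      rw [dg_val]
      ext i j
      fin_cases i <;> fin_cases j <;> simp
    have h5 := hcov.sq_lift_of_not h4 (by rw [h3]; exact not_li_dg hcov h2 hi2)
    rw [mul_comm 2 N, pow_mul, pow_two, h5]
  -- no eigenvector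
  have hF2 : (2 : F) ≠ 0 := ctx.two
  have hnoeig : ∀ (χ : F) (v : I4 → F), v ≠ 0 → ((a : GL I4 F) : Matrix I4 I4 F) *ᵥ v = χ • v → False := by
    intro χ v hv hav
    have hpow : ∀ n : ℕ, (((a : GL I4 F) : Matrix I4 I4 F) ^ n) *ᵥ v = χ ^ n • v := by
      intro n
      induction n with
      | zero => rw [pow_zero, pow_zero, Matrix.one_mulVec, one_smul]
      | succ n ih => rw [pow_succ, ← Matrix.mulVec_mulVec, hav, Matrix.mulVec_smul, ih, smul_smul,
          pow_succ, mul_comm χ]
    have h3 : ((a : GL I4 F) : Matrix I4 I4 F) ^ (2 * N) = -1 := by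
      have := congrArg (fun g : P => ((g : GL I4 F) : Matrix I4 I4 F)) haN
      simp only [Subgroup.coe_pow, Units.val_pow_eq_pow_val] at this
      rw [this]
      rfl
    have h4 := hpow (2 * N)
    rw [h3, Matrix.neg_mulVec, Matrix.one_mulVec] at h4
    have hχ0 : χ ≠ 0 := by
      rintro rfl
      rw [zero_pow (by omega), zero_smul, neg_eq_zero] at h4
      exact hv h4
    have h5 : χ ^ (2 * N) = 1 := by
      have h6 : χ ^ (q - 1) = 1 := FiniteField.pow_card_sub_one_eq_one χ hχ0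
      have h7 : 2 * N = (q - 1) * (m + 1) := by rw [hN, hm, Nat.add_sub_cancel]; ring
      rw [h7, pow_mul, h6, one_pow]
    rw [h5, one_smul] at h4
    have h6 : (2 : F) • v = 0 := by rw [two_smul]; nth_rewrite 1 [← h4]; exact neg_add_cancel v
    exact hv ((smul_eq_zero.1 h6).resolve_left hF2)
  -- the unipotent group
  set ρ : P →* Matrix I4 I4 F := (Units.coeHom (Matrix I4 I4 F)).comp P.subtype with hρ
  have hρ' : ∀ g : P, ρ g = ((g : GL I4 F) : Matrix I4 I4 F) := fun g => rfl
  set S : Subgroup P := y.range with hS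
  have hSp : IsPGroup p S := by
    rintro ⟨_, b, rfl⟩
    exact ⟨1, Subtype.ext (by rw [pow_one]; exact hyp b)⟩
  have hconj : ∀ s ∈ S, a * s * a⁻¹ ∈ S := by
    rintro _ ⟨b, rfl⟩
    exact ⟨_, (lift_conj hcov hodd hy hyp ha (Multiplicative.toAdd b)).symm⟩
  have hconj' : ∀ s ∈ S, a⁻¹ * s * a ∈ S := by
    rintro _ ⟨b, rfl⟩
    have ht2 : (t : K) ^ 2 ≠ 0 := pow_ne_zero _ t.ne_zero
    refine ⟨Multiplicative.ofAdd (((t : K) ^ 2)⁻¹ * Multiplicative.toAdd b), ?_⟩
    have h3 := lift_conj hcov hodd hy hyp ha (((t : K) ^ 2)⁻¹ * Multiplicative.toAdd b)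
    rw [← mul_assoc, mul_inv_cancel₀ ht2, one_mul] at h3
    change _ = y b at h3
    rw [← h3]
    group
  have hdim : ∀ W : Submodule F (I4 → F), (∀ v ∈ W, ρ a *ᵥ v ∈ W) →
      Module.finrank F W = 0 ∨ Module.finrank F W = 2 ∨ Module.finrank F W = 4 := by
    intro W hW
    have h3 : Module.finrank F W ≤ 4 := by
      have := Submodule.finrank_le W
      rw [Module.finrank_fintype_fun_eq_card] at this
      simpa using this
    have h4 : Module.finrank F W ≠ 1 := by
      intro h
      obtain ⟨χ, v, hv, hav⟩ := eigen_of_line h hW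
      exact hnoeig χ v hv hav
    have h5 : Module.finrank F W ≠ 3 := by
      intro h
      obtain ⟨χ, v, hv, hav⟩ := eigen_of_hyperplane (W := W) (by rw [h]; simp) hW
      exact hnoeig χ v hv hav
    omega
  -- the operator `next`
  let nx : Submodule F (I4 → F) → Submodule F (I4 → F) := fun W =>
    { carrier := {v | ∀ s ∈ S, ρ s *ᵥ v - v ∈ W}
      add_mem' := by
        intro u v hu hv s hs
        have := W.add_mem (hu s hs) (hv s hs)
        rw [Matrix.mulVec_add]
        rwa [show ρ s *ᵥ u - u + (ρ s *ᵥ v - v) = ρ s *ᵥ u + ρ s *ᵥ v - (u + v) by abel] at this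
      zero_mem' := by intro s _; rw [Matrix.mulVec_zero, sub_zero]; exact W.zero_mem
      smul_mem' := by
        intro c v hv s hs
        rw [Matrix.mulVec_smul, ← smul_sub]
        exact W.smul_mem _ (hv s hs) }
  have hnx : ∀ W v, v ∈ nx W ↔ ∀ s ∈ S, ρ s *ᵥ v - v ∈ W := fun _ _ => Iff.rfl
  have hnxa : ∀ W : Submodule F (I4 → F), (∀ v ∈ W, ρ a *ᵥ v ∈ W) → ∀ v ∈ nx W, ρ a *ᵥ v ∈ nx W := by
    intro W hW v hv s hs
    have h3 := hW _ (hv _ (hconj' s hs))
    have h4 : ρ a *ᵥ (ρ (a⁻¹ * s * a) *ᵥ v - v) = ρ s *ᵥ (ρ a *ᵥ v) - ρ a *ᵥ v := by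
      rw [Matrix.mulVec_sub, Matrix.mulVec_mulVec, Matrix.mulVec_mulVec, ← map_mul, ← map_mul]
      congr 3
      group
    rwa [h4] at h3
  have hbot : ∀ v ∈ (⊥ : Submodule F (I4 → F)), ρ a *ᵥ v ∈ (⊥ : Submodule F (I4 → F)) := by
    intro v hv
    rw [Submodule.mem_bot] at hv ⊢
    rw [hv, Matrix.mulVec_zero]
  set W₀ := nx ⊥ with hW₀
  have hW₀a := hnxa ⊥ hbot
  have hW₀S : ∀ s ∈ S, ∀ v ∈ W₀, ρ s *ᵥ v = v := by
    intro s hs v hv
    have := hv s hs
    rw [Submodule.mem_bot] at this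
    exact sub_eq_zero.1 this
  have hW₀0 : Module.finrank F W₀ ≠ 0 := by
    intro h
    obtain ⟨v, hv, hv'⟩ := exists_next p ρ hSp ⊥ (by
      intro h
      have h3 := congrArg (fun W : Submodule F (I4 → F) => Module.finrank F W) h
      simp at h3) (by
      intro s _ v hv
      rw [Submodule.mem_bot] at hv ⊢
      rw [hv, Matrix.mulVec_zero])
    have h3 : v ∈ W₀ := hv'
    rw [Submodule.finrank_eq_zero] at h
    rw [h] at h3
    exact hv h3
  have hquadS : ∀ s ∈ S, ∀ v, ρ s *ᵥ (ρ s *ᵥ v - v) = ρ s *ᵥ v - v := by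
    rcases hdim W₀ hW₀a with h3 | h3 | h3
    · exact absurd h3 hW₀0
    · -- dimension 2
      have hne : W₀ ≠ ⊤ := by
        intro h
        rw [h, finrank_top, Module.finrank_fintype_fun_eq_card] at h3
        simp at h3
      obtain ⟨w, hw, hw'⟩ := exists_next p ρ hSp W₀ hne (fun s hs v hv => by rw [hW₀S s hs v hv]; exact hv)
      have hlt : W₀ < nx W₀ := by
        refine lt_of_le_of_ne ?_ ?_
        · intro v hv s hs
          rw [hW₀S s hs v hv, sub_self]
          exact W₀.zero_mem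
        · intro h
          apply hw
          rw [h]
          exact hw'
      have h4 := Submodule.finrank_lt_finrank_of_lt hlt
      have h5 : nx W₀ = ⊤ := by
        apply Submodule.eq_top_of_finrank_eq
        rw [Module.finrank_fintype_fun_eq_card]
        rcases hdim _ (hnxa W₀ hW₀a) with h6 | h6 | h6
        · omega
        · omega
        · rw [h6]; simp
      intro s hs v
      have h6 : v ∈ nx W₀ := by rw [h5]; trivial
      exact hW₀S s hs _ (h6 s hs)
    · have h4 : W₀ = ⊤ := by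
        apply Submodule.eq_top_of_finrank_eq
        rw [Module.finrank_fintype_fun_eq_card, h3]; simp
      intro s hs v
      exact hW₀S s hs _ (by rw [h4]; trivial)
  refine quad_false ctx habs hp.out hp2 e fun x hx hxp => ⟨2, ?_⟩
  obtain ⟨g, b, hg⟩ := conj_lift hcov hodd hy hyp (x := ⟨x, hx⟩) (Subtype.ext hxp)
  have hYq : (((y b : P) : GL I4 F) : Matrix I4 I4 F) +
      ((((y b : P) : GL I4 F)⁻¹ : GL I4 F) : Matrix I4 I4 F) = (2 : F) • 1 := by
    set z : GL I4 F := ((y b : P) : GL I4 F) with hz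
    have h3 : (z : Matrix I4 I4 F) * (z : Matrix I4 I4 F) - (z : Matrix I4 I4 F) = (z : Matrix I4 I4 F) - 1 := by
      ext i j
      have h4 := congrFun (hquadS (y b) ⟨b, rfl⟩ (Pi.single j 1)) i
      rw [Matrix.mulVec_sub, Matrix.mulVec_mulVec, hρ', ← hz, Matrix.mulVec_single_one, Matrix.mulVec_single_one] at h4
      simp only [Pi.sub_apply, Matrix.col_apply] at h4
      rw [Matrix.sub_apply, Matrix.sub_apply, h4, Matrix.one_apply, Pi.single_apply]
    have h5 : (z : Matrix I4 I4 F) - 1 = 1 - ((z⁻¹ : GL I4 F) : Matrix I4 I4 F) := by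
      have h6 := congrArg (fun M => ((z⁻¹ : GL I4 F) : Matrix I4 I4 F) * M) h3
      simp only [mul_sub, ← mul_assoc, mul_one] at h6
      rw [← Units.val_mul, inv_mul_cancel, Units.val_one, one_mul] at h6
      exact h6
    rw [two_smul]
    rw [sub_eq_sub_iff_add_eq_add] at h5
    rw [h5]
  -- conjugate back
  have hx' : x = (g : GL I4 F)⁻¹ * ((y b : P) : GL I4 F) * (g : GL I4 F) := by
    have := congrArg Subtype.val hg
    change (g : GL I4 F) * x * (g : GL I4 F)⁻¹ = _ at this
    rw [← this]; group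
  have hx'' : x⁻¹ = (g : GL I4 F)⁻¹ * ((y b : P) : GL I4 F)⁻¹ * (g : GL I4 F) := by
    rw [hx']; group
  rw [hx'', hx', Units.val_mul, Units.val_mul, Units.val_mul, Units.val_mul, ← add_mul, ← mul_add, hYq,
    Matrix.mul_smul, Matrix.smul_mul, mul_one, ← Units.val_mul, inv_mul_cancel, Units.val_one]

end Cfsg.Agent.H587.Sp
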