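import Cfsg.Agent.H587.Sp.Quad
import Cfsg.Agent.H203.LSDef
import Cfsg.Agent.H906.TracePow
import Cfsg.Agent.H906.TraceField
import Cfsg.Agent.ClassicalGeometry.SL2Order
import Cfsg.Agent.ClassicalGeometry.PSL2Basic

/-!
# Elements of `Sp_4(q)` (helper587)
-/

set_option autoImplicit false
set_option linter.style.haveILetI false

namespace Cfsg.Agent.H587.Sp

open Cfsg Cfsg.Geo Matrix
open Cfsg.Agent.H909 Cfsg.Agent.H909.SpDouble
open Cfsg.Agent.ClassicalGeometry.SympBasic

universe u v

section Inv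

variable {F : Type u} [Field F] {m : ℕ}

/-- the matrix of the form as a unit -/
def JU (m : ℕ) (F : Type u) [Field F] : (Matrix (Fin m ⊕ Fin m) (Fin m ⊕ Fin m) F)ˣ where
  val := Matrix.J (Fin m) F
  inv := -Matrix.J (Fin m) F
  val_inv := by rw [mul_neg, Matrix.J_squared, neg_neg]
  inv_val := by rw [neg_mul, Matrix.J_squared, neg_neg]

theorem transpose_eq {g : GL (Fin m ⊕ Fin m) F} (hg : g ∈ spGL m F) :
    (g : Matrix (Fin m ⊕ Fin m) (Fin m ⊕ Fin m) F)ᵀ =
      (JU m F).val * ((g⁻¹ : GL (Fin m ⊕ Fin m) F) : Matrix (Fin m ⊕ Fin m) (Fin m ⊕ Fin m) F) *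
        (JU m F)⁻¹.val := by
  have h1 := mem_spGL_iff_transpose.1 hg
  rw [Units.eq_mul_inv_iff_mul_eq]
  change _ * Matrix.J (Fin m) F = Matrix.J (Fin m) F * _
  rw [Units.eq_mul_inv_iff_mul_eq]
  exact h1

theorem charpoly_inv_sp {g : GL (Fin m ⊕ Fin m) F} (hg : g ∈ spGL m F) :
    ((g⁻¹ : GL (Fin m ⊕ Fin m) F) : Matrix (Fin m ⊕ Fin m) (Fin m ⊕ Fin m) F).charpoly =
      (g : Matrix (Fin m ⊕ Fin m) (Fin m ⊕ Fin m) F).charpoly := by
  rw [← Matrix.charpoly_transpose (g : Matrix (Fin m ⊕ Fin m) (Fin m ⊕ Fin m) F), transpose_eq hg]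
  have h := Matrix.charpoly_units_conj (JU m F)
    ((g⁻¹ : GL (Fin m ⊕ Fin m) F) : Matrix (Fin m ⊕ Fin m) (Fin m ⊕ Fin m) F)
  rw [← Matrix.coe_units_inv] at h
  exact h.symm

theorem trace_inv_sp {g : GL (Fin m ⊕ Fin m) F} (hg : g ∈ spGL m F) :
    ((g⁻¹ : GL (Fin m ⊕ Fin m) F) : Matrix (Fin m ⊕ Fin m) (Fin m ⊕ Fin m) F).trace =
      (g : Matrix (Fin m ⊕ Fin m) (Fin m ⊕ Fin m) F).trace := by
  rw [← Matrix.trace_transpose (g : Matrix (Fin m ⊕ Fin m) (Fin m ⊕ Fin m) F), transpose_eq hg,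
    Matrix.trace_units_conj]

end Inv

section Cube

variable {F : Type u} [Field F]

/-- In characteristic 3 the elements of order 3 of `Sp_4` are quadratic. -/
theorem cube_quad (h3 : (3 : F) = 0) {y : GL I4 F} (hy : y ∈ spGL 2 F) (hy3 : y ^ 3 = 1) :
    (y : Matrix I4 I4 F) + ((y⁻¹ : GL I4 F) : Matrix I4 I4 F) = (2 : F) • 1 := by
  set A : Matrix I4 I4 F := (y : Matrix I4 I4 F) with hA
  have hinv : y⁻¹ = y ^ 2 := by
    rw [inv_eq_iff_mul_eq_one, ← pow_succ', hy3]
  have hA' : ((y⁻¹ : GL I4 F) : Matrix I4 I4 F) = A * A := by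
    rw [hinv, Units.val_pow_eq_pow_val, pow_two]
  have hA3 : A * A * A = 1 := by
    have := congrArg Units.val hy3
    rw [Units.val_pow_eq_pow_val, Units.val_one] at this
    rw [← this, pow_succ, pow_two]
  set M : Matrix I4 I4 F := A - 1 with hM
  set T : Matrix I4 I4 F := M * M with hT
  have h3' : ∀ X : Matrix I4 I4 F, X + X + X = 0 := by
    intro X
    have : X + X + X = (3 : F) • X := by
      rw [show (3 : F) = 1 + 1 + 1 by norm_num, add_smul, add_smul, one_smul]
    rw [this, h3, zero_smul]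
  have hTe : T = A + A * A + 1 := by
    have e1 : T = A * A - A - A + 1 := by
      rw [hT, hM]; simp only [sub_mul, mul_sub, one_mul, mul_one]; abel
    have e2 := h3' A
    rw [e1]
    calc A * A - A - A + 1 = A * A - A - A + 1 + 0 := by rw [add_zero]
      _ = A * A - A - A + 1 + (A + A + A) := by rw [e2]
      _ = _ := by abel
  have hMT : M * T = 0 := by
    rw [hTe, hM]
    simp only [sub_mul, mul_add, one_mul, mul_one]
    rw [← mul_assoc, hA3]
    abel
  have hself : ∀ u v : I4 → F, sympForm 2 F (T *ᵥ u) v = sympForm 2 F u (T *ᵥ v) := by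
    intro u v
    have e1 := sympForm_inv_right hy u v
    have e2 := sympForm_inv_right (inv_mem hy) u v
    rw [inv_inv] at e2
    rw [hA'] at e1 e2
    rw [hTe, Matrix.add_mulVec, Matrix.add_mulVec, Matrix.add_mulVec, Matrix.add_mulVec,
      Matrix.one_mulVec, Matrix.one_mulVec, sympForm_add_left, sympForm_add_left, sympForm_add_right,
      sympForm_add_right, e1, e2]
    ring
  have h2 : (2 : F) ≠ 0 := by
    intro h2
    have : (1 : F) = 3 - 2 := by norm_num
    rw [h3, h2, sub_zero] at this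
    exact one_ne_zero this
  have halt : ∀ u : I4 → F, sympForm 2 F (T *ᵥ u) u = 0 := by
    intro u
    have e1 := hself u u
    rw [sympForm_swap u (T *ᵥ u)] at e1
    have e2 : (2 : F) * sympForm 2 F (T *ᵥ u) u = 0 := by linear_combination e1
    exact (mul_eq_zero.1 e2).resolve_left h2
  have hT0 : T = 0 := by
    by_contra hne
    -- vectors
    obtain ⟨u, v, huv⟩ : ∃ u v : I4 → F, sympForm 2 F (T *ᵥ u) v ≠ 0 := by
      by_contra hcon
      push Not at hcon
      apply hne
      have hz : ∀ u, T *ᵥ u = 0 := by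
        intro u
        by_contra hu
        obtain ⟨i, hi⟩ := Function.ne_iff.1 hu
        rcases i with i | i
        · have := hcon u (Pi.single (Sum.inr i) 1)
          rw [sympForm_swap, sympForm_single_inr_left, neg_eq_zero] at this
          exact hi this
        · have := hcon u (Pi.single (Sum.inl i) 1)
          rw [sympForm_swap, sympForm_single_inl_left, neg_neg] at this
          exact hi this
      ext i j
      have := congrFun (hz (Pi.single j 1)) i
      rw [Matrix.mulVec_single_one] at this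
      exact this
    have key : ∀ a b : F, a • (T *ᵥ u) + b • (T *ᵥ v) = 0 → a = 0 ∧ b = 0 := by
      intro a b hab
      have e1 : sympForm 2 F (a • (T *ᵥ u) + b • (T *ᵥ v)) v = 0 := by
        rw [hab, sympForm_zero_left]
      have e2 : sympForm 2 F (a • (T *ᵥ u) + b • (T *ᵥ v)) u = 0 := by
        rw [hab, sympForm_zero_left]
      rw [sympForm_add_left, sympForm_smul_left, sympForm_smul_left, halt, mul_zero, add_zero] at e1
      rw [sympForm_add_left, sympForm_smul_left, sympForm_smul_left, halt, mul_zero, zero_add,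
        hself v u, sympForm_swap v (T *ᵥ u), mul_neg, neg_eq_zero] at e2
      exact ⟨(mul_eq_zero.1 e1).resolve_right huv, (mul_eq_zero.1 e2).resolve_right huv⟩
    have hli : LinearIndependent F ![u, v, M *ᵥ u, M *ᵥ v, T *ᵥ u, T *ᵥ v] := by
      rw [Fintype.linearIndependent_iff]
      intro g hg
      have hg' : g 0 • u + g 1 • v + g 2 • (M *ᵥ u) + g 3 • (M *ᵥ v) + g 4 • (T *ᵥ u) +
          g 5 • (T *ᵥ v) = 0 := by
        have := hg
        rw [Fin.sum_univ_six] at this
        exact this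
      have hMM : ∀ w, M *ᵥ (M *ᵥ w) = T *ᵥ w := fun w => by rw [Matrix.mulVec_mulVec]
      have hMTw : ∀ w, M *ᵥ (T *ᵥ w) = 0 := fun w => by
        rw [Matrix.mulVec_mulVec, hMT, Matrix.zero_mulVec]
      have e1 : g 0 • (M *ᵥ u) + g 1 • (M *ᵥ v) + g 2 • (T *ᵥ u) + g 3 • (T *ᵥ v) = 0 := by
        have h1 := congrArg (fun w => M *ᵥ w) hg'
        simp only [Matrix.mulVec_add, Matrix.mulVec_smul, hMM, hMTw, smul_zero, add_zero,
          Matrix.mulVec_zero] at h1
        exact h1
      have e2 : g 0 • (T *ᵥ u) + g 1 • (T *ᵥ v) = 0 := by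
        have h1 := congrArg (fun w => M *ᵥ w) e1
        simp only [Matrix.mulVec_add, Matrix.mulVec_smul, hMM, hMTw, smul_zero, add_zero,
          Matrix.mulVec_zero] at h1
        exact h1
      obtain ⟨g0, g1⟩ := key _ _ e2
      rw [g0, g1, zero_smul, zero_smul, zero_add, zero_add] at e1
      obtain ⟨g2, g3⟩ := key _ _ e1
      rw [g0, g1, g2, g3, zero_smul, zero_smul, zero_smul, zero_smul, zero_add, zero_add, zero_add,
        zero_add] at hg'
      obtain ⟨g4, g5⟩ := key _ _ hg'
      intro i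
      fin_cases i
      exacts [g0, g1, g2, g3, g4, g5]
    have := hli.fintype_card_le_finrank
    rw [Module.finrank_fintype_fun_eq_card] at this
    simp at this
  have e3 := h3' (1 : Matrix I4 I4 F)
  rw [hA']
  have e4 : A + A * A + 1 = 0 := by rw [← hTe, hT0]
  have e5 : (2 : F) • (1 : Matrix I4 I4 F) = 1 + 1 := by rw [two_smul]
  rw [e5]
  calc A + A * A = A + A * A + 1 - 1 := by abel
    _ = 0 - 1 + 0 := by rw [e4, add_zero]
    _ = 0 - 1 + (1 + 1 + 1) := by rw [e3]
    _ = 1 + 1 := by abel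

end Cube

end Cfsg.Agent.H587.Sp
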