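import Cfsg.Agent.H909.SpDouble
import Cfsg.Agent.H909.QuadPair
import Cfsg.Agent.H906.SL2Unip
import Cfsg.Agent.S0801

/-!
# Subgroups of `Sp_4(q)` which are `SL_2` modulo scalars: quadratic unipotent elements (helper587)
-/

set_option autoImplicit false
set_option linter.style.haveILetI false

namespace Cfsg.Agent.H587.Sp

open Cfsg Cfsg.Geo Matrix
open Cfsg.Agent.H909 Cfsg.Agent.H909.SpDouble
open Cfsg.Agent.ClassicalGeometry.SympBasic

universe u v

section Lift

variable {Y : Type u} {X : Type v} [Group Y] [Group X] {f : Y →* X} {c : Y}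

theorem c_pow (h : TwoCov f c) {p : ℕ} (hp : Odd p) : c ^ p = c := by
  obtain ⟨k, rfl⟩ := hp
  rw [pow_succ, pow_mul, pow_two, h.sq, one_pow, one_mul]

theorem exists_lift (h : TwoCov f c) {p : ℕ} (hp : Odd p) {x : X} (hx : x ^ p = 1) :
    ∃ y, f y = x ∧ y ^ p = 1 := by
  obtain ⟨y, hy⟩ := h.surj x
  have h1 : f (y ^ p) = 1 := by rw [map_pow, hy, hx]
  rcases (h.ker _).1 h1 with h2 | h2
  · exact ⟨y, hy, h2⟩
  · refine ⟨c * y, by rw [map_mul, h.map_c, one_mul, hy], ?_⟩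
    have hc : Commute c y := h.cen y
    rw [hc.mul_pow, h2, c_pow h hp, h.sq]

theorem lift_unique (h : TwoCov f c) {p : ℕ} (hp : Odd p) {y y' : Y} (hy : y ^ p = 1)
    (hy' : y' ^ p = 1) (hf : f y = f y') : y = y' := by
  rcases h.eq_or hf with h1 | h1
  · exact h1
  · exfalso
    have hc : Commute c y' := h.cen y'
    rw [h1, hc.mul_pow, hy', mul_one, c_pow h hp] at hy
    exact h.ne hy

theorem comp_equiv {X' : Type*} [Group X'] (h : TwoCov f c) (e : X ≃* X') :
    TwoCov (e.toMonoidHom.comp f) c where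
  ne := h.ne
  sq := h.sq
  cen := h.cen
  surj := e.surjective.comp h.surj
  ker := fun x => by
    rw [MonoidHom.comp_apply, MulEquiv.coe_toMonoidHom, map_eq_one_iff _ e.injective]
    exact h.ker x
  two := h.two

end Lift

section Gen

variable {F : Type u} [Field F] {P : Subgroup (GL I4 F)}

theorem le_closure {X : Type v} [Group X] (f : P →* X) (hker : ∀ x, f x = 1 → (x : GL I4 F) ∈ scalars I4 F)
    {y₁ y₂ : P} (hgen : Subgroup.closure ({f y₁, f y₂} : Set X) = ⊤) :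
    P ≤ Subgroup.closure {(y₁ : GL I4 F), (y₂ : GL I4 F)} ⊔ scalars I4 F := by
  intro g hg
  have h1 : f ⟨g, hg⟩ ∈ (Subgroup.closure ({y₁, y₂} : Set P)).map f := by
    rw [MonoidHom.map_closure, Set.image_pair, hgen]
    exact Subgroup.mem_top _
  obtain ⟨q, hq, hqg⟩ := h1
  have h2 : (q : GL I4 F) ∈ Subgroup.closure {(y₁ : GL I4 F), (y₂ : GL I4 F)} := by
    have h3 : (q : GL I4 F) ∈ (Subgroup.closure ({y₁, y₂} : Set P)).map P.subtype := ⟨q, hq, rfl⟩
    rw [MonoidHom.map_closure, Set.image_pair] at h3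
    exact h3
  have h3 : ((q⁻¹ * ⟨g, hg⟩ : P) : GL I4 F) ∈ scalars I4 F := by
    apply hker
    rw [map_mul, map_inv, hqg, inv_mul_cancel]
  have h4 : g = (q : GL I4 F) * ((q⁻¹ * ⟨g, hg⟩ : P) : GL I4 F) := by
    rw [← Subgroup.coe_mul, mul_inv_cancel_left]
  rw [h4]
  exact Subgroup.mul_mem _ (Subgroup.mem_sup_left h2) (Subgroup.mem_sup_right h3)

/-- Two elements generating modulo scalars cannot both be quadratic. -/
theorem quad_two [Finite F] {X : Type v} [Group X] (habs : ActsAbsolutelyIrreducibly (matrixSet P)) (f : P →* X)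
    (hker : ∀ x, f x = 1 → (x : GL I4 F) ∈ scalars I4 F)
    {y₁ y₂ : P} (hgen : Subgroup.closure ({f y₁, f y₂} : Set X) = ⊤) {c₁ c₂ : F}
    (h₁ : ((y₁ : GL I4 F) : Matrix I4 I4 F) + (((y₁ : GL I4 F)⁻¹ : GL I4 F) : Matrix I4 I4 F) = c₁ • 1)
    (h₂ : ((y₂ : GL I4 F) : Matrix I4 I4 F) + (((y₂ : GL I4 F)⁻¹ : GL I4 F) : Matrix I4 I4 F) = c₂ • 1) :
    False :=
  QuadPair.quad_pair (by simp) habs (le_closure f hker hgen) h₁ h₂

end Gen

section SL2

variable {K : Type v} [Field K]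

open Cfsg.Agent.LieClassical.SLTwoUnipotent in
theorem exists_gen [Fintype K] (h2 : (2 : K) ≠ 0) :
    ∃ lam : K, Subgroup.closure ({l 1, u lam} : Set (SpecialLinearGroup (Fin 2) K)) = ⊤ := by
  classical
  obtain ⟨g, hg⟩ := IsCyclic.exists_generator (α := Kˣ)
  refine ⟨(g : K), ?_⟩
  have hgen : Subfield.closure ({(g : K)} : Set K) = ⊤ := by
    rw [eq_top_iff]
    intro x _
    by_cases hx : x = 0
    · rw [hx]; exact Subfield.zero_mem _
    · obtain ⟨n, hn⟩ := hg (Units.mk0 x hx)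
      have h1 : x = (g : K) ^ n := by
        have := congrArg Units.val hn
        rw [Units.val_zpow_eq_zpow_val, Units.val_mk0] at this
        exact this.symm
      rw [h1]
      exact zpow_mem (Subfield.subset_closure (Set.mem_singleton _)) n
  rcases Cfsg.Agent.S0801.result h2 (g : K) g.ne_zero hgen with h | h
  · rw [Cfsg.Agent.S0801.closure_set_eq] at h
    exact h.1
  · exfalso
    obtain ⟨h9, hsq, -⟩ := h
    have hord : orderOf g = Fintype.card K - 1 := by
      rw [orderOf_eq_card_of_forall_mem_zpowers hg, Nat.card_eq_fintype_card, Fintype.card_units]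
    rw [h9] at hord
    have h4 : g ^ 4 = 1 := by
      apply Units.ext
      rw [Units.val_pow_eq_pow_val, Units.val_one, show (4 : ℕ) = 2 * 2 from rfl, pow_mul, hsq]
      ring
    have := orderOf_dvd_of_pow_eq_one h4
    rw [hord] at this
    omega

open Cfsg.Agent.LieClassical.SLTwoUnipotent in
theorem l_pow (x : K) (n : ℕ) : l x ^ n = l ((n : K) * x) := by
  induction n with
  | zero => rw [pow_zero, Nat.cast_zero, zero_mul, l_zero]
  | succ n ih => rw [pow_succ, ih, ← l_add]; congr 1; push_cast; ring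

open Cfsg.Agent.LieClassical.SLTwoUnipotent in
theorem u_pow (x : K) (n : ℕ) : u x ^ n = u ((n : K) * x) := by
  induction n with
  | zero => rw [pow_zero, Nat.cast_zero, zero_mul, u_zero]
  | succ n ih => rw [pow_succ, ih, ← u_add]; congr 1; push_cast; ring

end SL2

variable {F : Type u} [Field F]

/-- the projection of `P` -/
def pr {P : Subgroup (GL I4 F)} {X : Type v} [Group X] (e : (P ⧸ Zs P) ≃* X) : P →* X :=
  e.toMonoidHom.comp (QuotientGroup.mk' (Zs P))

theorem pr_ker {P : Subgroup (GL I4 F)} {X : Type v} [Group X] (e : (P ⧸ Zs P) ≃* X) (x : P) :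
    pr e x = 1 → (x : GL I4 F) ∈ scalars I4 F := by
  intro h
  have h1 : e (QuotientGroup.mk' (Zs P) x) = 1 := h
  rw [map_eq_one_iff _ e.injective, QuotientGroup.mk'_apply, QuotientGroup.eq_one_iff,
    Subgroup.mem_subgroupOf] at h1
  exact h1

theorem pr_cov [Finite F] {P : Subgroup (GL I4 F)} (ctx : Ctx P) {X : Type v} [Group X]
    (e : (P ⧸ Zs P) ≃* X) : TwoCov (pr e) (Ctx.neg ctx.neg_one_mem) :=
  comp_equiv ctx.twoCov e

theorem two_ne_zero_of_card {K : Type v} [Field K] [Fintype K] (h : Odd (Fintype.card K)) : (2 : K) ≠ 0 := by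
  intro h2
  obtain ⟨p, hp⟩ := CharP.exists K
  obtain ⟨n, hpp, hn⟩ := FiniteField.card K p
  have h3 : p ∣ 2 := (CharP.cast_eq_zero_iff K p 2).1 (by exact_mod_cast h2)
  have h4 : p = 2 := (Nat.prime_dvd_prime_iff_eq hpp Nat.prime_two).1 h3
  rw [hn, h4, Nat.odd_pow_iff n.pos.ne'] at h
  exact absurd h (by decide)

/-- All `p`-elements quadratic is impossible. -/
theorem quad_false [Finite F] {P : Subgroup (GL (Fin 2 ⊕ Fin 2) F)} (ctx : Ctx P)
    (habs : ActsAbsolutelyIrreducibly (matrixSet P))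
    {K : Type v} [Field K] [Fintype K] {p : ℕ} (hp : p.Prime) (hp2 : p ≠ 2) [CharP K p]
    (e : (P ⧸ (scalars (Fin 2 ⊕ Fin 2) F).subgroupOf P) ≃* Matrix.ProjectiveSpecialLinearGroup (Fin 2) K)
    (hq : ∀ y ∈ P, y ^ p = 1 → ∃ c : F, (y : Matrix (Fin 2 ⊕ Fin 2) (Fin 2 ⊕ Fin 2) F) +
      ((y⁻¹ : GL (Fin 2 ⊕ Fin 2) F) : Matrix (Fin 2 ⊕ Fin 2) (Fin 2 ⊕ Fin 2) F) = c • 1) : False := by
  have hodd : Odd p := hp.odd_of_ne_two hp2
  have h2 : (2 : K) ≠ 0 := by
    intro h
    have h3 : p ∣ 2 := (CharP.cast_eq_zero_iff K p 2).1 (by exact_mod_cast h)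
    exact hp2 ((Nat.prime_dvd_prime_iff_eq hp Nat.prime_two).1 h3)
  obtain ⟨lam, hlam⟩ := exists_gen (K := K) h2
  have hcov := pr_cov ctx e
  obtain ⟨y₁, hy₁, hy₁p⟩ := exists_lift hcov hodd
    (x := QuotientGroup.mk (Cfsg.Agent.LieClassical.SLTwoUnipotent.l (1 : K))) (by
      rw [← QuotientGroup.mk_pow, l_pow, CharP.cast_eq_zero, zero_mul,
        Cfsg.Agent.LieClassical.SLTwoUnipotent.l_zero]; rfl)
  obtain ⟨y₂, hy₂, hy₂p⟩ := exists_lift hcov hodd
    (x := QuotientGroup.mk (Cfsg.Agent.LieClassical.SLTwoUnipotent.u lam)) (by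
      rw [← QuotientGroup.mk_pow, u_pow, CharP.cast_eq_zero, zero_mul,
        Cfsg.Agent.LieClassical.SLTwoUnipotent.u_zero]; rfl)
  obtain ⟨c₁, h₁⟩ := hq y₁ y₁.2 (congrArg Subtype.val hy₁p)
  obtain ⟨c₂, h₂⟩ := hq y₂ y₂.2 (congrArg Subtype.val hy₂p)
  refine quad_two habs (pr e) (pr_ker e) (y₁ := y₁) (y₂ := y₂) ?_ h₁ h₂
  rw [hy₁, hy₂]
  have h3 : (Subgroup.closure ({Cfsg.Agent.LieClassical.SLTwoUnipotent.l 1,
      Cfsg.Agent.LieClassical.SLTwoUnipotent.u lam} : Set (SpecialLinearGroup (Fin 2) K))).map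
        (QuotientGroup.mk' (Subgroup.center (SpecialLinearGroup (Fin 2) K))) = ⊤ := by
    rw [hlam, ← MonoidHom.range_eq_map]
    exact MonoidHom.range_eq_top.2 (QuotientGroup.mk'_surjective _)
  rw [MonoidHom.map_closure, Set.image_pair] at h3
  exact h3

end Cfsg.Agent.H587.Sp
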